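import Cfsg.Agent.Lib.Cores.CoprimeGen
import Cfsg.Agent.Lib.Cores.Coprime
import Cfsg.Agent.Lib.Local.CharP
import Cfsg.Agent.Lib.Techniques.SmallCritical
import Cfsg.Prelude.Def_LocalEven

/-!
Klinger–Mason: preparations. Cores of centralizers, detecting subgroups, the dihedral lemma and the rank bound.
-/

namespace CfsgLib.KlingerMason

open Subgroup Cfsg CfsgLib.Cores CfsgLib.Local
open scoped commutatorElement

variable {G : Type*} [Group G]

/-! ### Small facts -/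

theorem eq_one_of_coprime_pows {c : G} {m n : ℕ} (h : Nat.Coprime m n) (hm : c ^ m = 1) (hn : c ^ n = 1) :
    c = 1 :=
  orderOf_eq_one_iff.1
    (Nat.eq_one_of_dvd_coprimes h (orderOf_dvd_of_pow_eq_one hm) (orderOf_dvd_of_pow_eq_one hn))

theorem eq_one_of_sq {p : ℕ} [hp : Fact p.Prime] (hp2 : p ≠ 2) {P : Subgroup G} (hP : IsPGroup p P) {c : G}
    (hc : c ∈ P) (h : c * c = 1) : c = 1 := by
  obtain ⟨k, hk⟩ := hP ⟨c, hc⟩
  exact eq_one_of_coprime_pows (m := 2) (n := p ^ k)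
    (((Nat.coprime_primes Nat.prime_two hp.out).2 (Ne.symm hp2)).pow_right k)
    (by rw [pow_two]; exact h) (congrArg Subtype.val hk)

theorem eq_one_of_mem_two {p : ℕ} [hp : Fact p.Prime] (hp2 : p ≠ 2) {P D : Subgroup G} (hP : IsPGroup p P)
    (hD : IsPGroup 2 D) {c : G} (hc : c ∈ P) (hc' : c ∈ D) : c = 1 := by
  obtain ⟨k, hk⟩ := hP ⟨c, hc⟩
  obtain ⟨j, hj⟩ := hD ⟨c, hc'⟩
  exact eq_one_of_coprime_pows (((Nat.coprime_primes hp.out Nat.prime_two).2 hp2).pow k j)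
    (congrArg Subtype.val hk) (congrArg Subtype.val hj)

theorem conj_pow_of_sq {i x : G} (hi : i * i = 1) (n : ℕ) : i * x ^ n * i = (i * x * i) ^ n := by
  have h : i⁻¹ = i := inv_eq_of_mul_eq_one_right hi
  conv_lhs => rw [show i * x ^ n * i = i * x ^ n * i⁻¹ by rw [h], ← conj_pow, h]

/-- Coprime splitting of an element of a `p`-group under an involution normalizing it. -/
theorem exists_fixed_inverted {p : ℕ} [hp : Fact p.Prime] (hp2 : p ≠ 2) {D : Subgroup G} (hD : IsPGroup p D)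
    {i : G} (hi : i * i = 1) (hn : ∀ x ∈ D, i * x * i ∈ D) {u : G} (hu : u ∈ D) :
    ∃ f ∈ D, ∃ m ∈ D, u = f * m ∧ i * f * i = f ∧ i * m * i = m⁻¹ ∧
      ∀ c, Commute c u → Commute c i → Commute c f ∧ Commute c m := by
  have hinv : i⁻¹ = i := inv_eq_of_mul_eq_one_right hi
  set m₀ := u⁻¹ * (i * u * i) with hm₀
  have hm₀D : m₀ ∈ D := mul_mem (inv_mem hu) (hn u hu)
  have h1 : i * m₀ * i = m₀⁻¹ := by
    rw [hm₀]
    calc i * (u⁻¹ * (i * u * i)) * i = i * u⁻¹ * i * u * (i * i) := by group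
      _ = (u⁻¹ * (i⁻¹ * u * i⁻¹))⁻¹ := by rw [hi]; group
      _ = _ := by rw [hinv]
  obtain ⟨k, hk⟩ := hD ⟨m₀, hm₀D⟩
  have hk' : m₀ ^ p ^ k = 1 := congrArg Subtype.val hk
  obtain ⟨r, hr⟩ := (hp.out.odd_of_ne_two hp2).pow (n := k)
  set n := m₀ ^ (r + 1) with hndef
  have hn2 : n * n = m₀ := by
    rw [hndef, ← pow_add, show r + 1 + (r + 1) = p ^ k + 1 by omega, pow_succ, hk', one_mul]
  have h2 : i * n * i = n⁻¹ := by rw [hndef, conj_pow_of_sq hi, h1, inv_pow]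
  have hnD : n ∈ D := pow_mem hm₀D _
  refine ⟨u * n, mul_mem hu hnD, n⁻¹, inv_mem hnD, by group, ?_, ?_, fun c hcu hci => ?_⟩
  · calc i * (u * n) * i = (i * u * i) * (i * n * i) := by
          rw [show (i * u * i) * (i * n * i) = i * u * (i * i) * n * i by group, hi]; group
      _ = u * m₀ * n⁻¹ := by rw [h2, hm₀]; group
      _ = u * n := by rw [← hn2]; group
  · calc i * n⁻¹ * i = (i⁻¹ * n * i⁻¹)⁻¹ := by group
      _ = n⁻¹⁻¹ := by rw [hinv, h2]
  · have hc : Commute c m₀ := hcu.inv_right.mul_right ((hci.mul_right hcu).mul_right hci)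
    exact ⟨hcu.mul_right (hc.pow_right _), (hc.pow_right _).inv_right⟩

theorem mem_sup_comm {A B : Subgroup G} (hc : ∀ a ∈ A, ∀ b ∈ B, a * b = b * a) {x : G} (hx : x ∈ A ⊔ B) :
    ∃ a ∈ A, ∃ b ∈ B, a * b = x := by
  have hBN : B ≤ normalizer (A : Set G) := le_trans
    (fun b hb => mem_centralizer_iff.2 fun a ha => hc a ha b hb) (centralizer_le_normalizer _)
  rwa [← SetLike.mem_coe, coe_mul_of_right_le_normalizer_left _ _ hBN, Set.mem_mul] at hx

theorem card_sup_comm {A B : Subgroup G} (hc : ∀ a ∈ A, ∀ b ∈ B, a * b = b * a) (hd : A ⊓ B = ⊥) :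
    Nat.card ↥(A ⊔ B) = Nat.card A * Nat.card B :=
  Solvable.card_sup_of_disjoint (le_trans
    (fun b hb => mem_centralizer_iff.2 fun a ha => hc a ha b hb) (centralizer_le_normalizer _)) hd

theorem inf_zpowers_eq_bot {q : ℕ} (hq : q.Prime) {A : Subgroup G} {x : G} (hx : x ^ q = 1) (hxA : x ∉ A) :
    A ⊓ zpowers x = ⊥ := by
  haveI := Fact.mk hq
  have hord : orderOf x = q := orderOf_eq_prime hx fun h => hxA (h ▸ one_mem A)
  rw [eq_bot_iff]
  rintro y ⟨hyA, hy⟩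
  by_contra h1
  have : Nat.card (zpowers x) = q := by rw [Nat.card_zpowers, hord]
  have hgen := zpowers_eq_top_of_prime_card (g := (⟨y, hy⟩ : zpowers x)) this
    fun he => h1 (congrArg Subtype.val he)
  obtain ⟨i, hi⟩ := mem_zpowers_iff.1 (hgen ▸ mem_top (⟨x, mem_zpowers x⟩ : zpowers x))
  have h : y ^ i = x := congrArg Subtype.val hi
  exact hxA (h ▸ A.zpow_mem hyA i)

/-- Adjoining a commuting element of prime order. -/
theorem card_sup_zpowers {q : ℕ} (hq : q.Prime) {A : Subgroup G} {x : G} (hc : ∀ a ∈ A, a * x = x * a)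
    (hx : x ^ q = 1) (hxA : x ∉ A) : Nat.card ↥(A ⊔ zpowers x) = Nat.card A * q := by
  haveI := Fact.mk hq
  rw [card_sup_comm (fun a ha b hb => ?_) (inf_zpowers_eq_bot hq hx hxA), Nat.card_zpowers,
    orderOf_eq_prime hx fun h => hxA (h ▸ one_mem A)]
  obtain ⟨i, rfl⟩ := mem_zpowers_iff.1 hb
  exact (show Commute a x from hc a ha).zpow_right i

theorem elemAb_sup_zpowers {q : ℕ} {A : Subgroup G} (hA : IsElementaryAbelian q A) {x : G}
    (hc : ∀ a ∈ A, a * x = x * a) (hx : x ^ q = 1) : IsElementaryAbelian q (A ⊔ zpowers x) :=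
  PGroup.elemAb_sup hA (PGroup.elemAb_zpowers hx) fun a ha b hb => by
    obtain ⟨i, rfl⟩ := mem_zpowers_iff.1 hb
    exact (show Commute a x from hc a ha).zpow_right i

/-! ### Cores -/

/-- `O_p(H)` inside `G`. -/
def coreOf (p : ℕ) (H : Subgroup G) : Subgroup G := (pCore p ↥H).map H.subtype

theorem coreOf_le (p : ℕ) (H : Subgroup G) : coreOf p H ≤ H := map_subtype_le _

theorem isPGroup_coreOf [Finite G] (p : ℕ) (H : Subgroup G) : IsPGroup p (coreOf p H) :=
  (isPGroup_pCore p).map _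

theorem conj_mem_coreOf {p : ℕ} {H : Subgroup G} {g q : G} (hg : g ∈ H) (hq : q ∈ coreOf p H) :
    g * q * g⁻¹ ∈ coreOf p H := by
  obtain ⟨q, hq, rfl⟩ := hq
  haveI := pCore_characteristic (G := ↥H) p
  exact ⟨⟨g, hg⟩ * q * ⟨g, hg⟩⁻¹, (inferInstance : (pCore p ↥H).Normal).conj_mem q hq ⟨g, hg⟩, rfl⟩

theorem le_coreOf {p : ℕ} {H N : Subgroup G} (hNH : N ≤ H) (hn : ∀ g ∈ H, ∀ x ∈ N, g * x * g⁻¹ ∈ N)
    (hN : IsPGroup p N) : N ≤ coreOf p H := fun x hx => by
  haveI : (N.subgroupOf H).Normal := ⟨fun y hy g => hn g g.2 y hy⟩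
  exact ⟨⟨x, hNH hx⟩, le_pCore (N := N.subgroupOf H) hN.comap_subtype (mem_subgroupOf.2 hx), rfl⟩

theorem mem_coreOf_of_commute {p : ℕ} {H : Subgroup G} (h : HasCharP p ↥H) {x : G} (hx : x ∈ H)
    (hc : ∀ q ∈ coreOf p H, q * x = x * q) : x ∈ coreOf p H :=
  ⟨⟨x, hx⟩, h (mem_centralizer_iff.2 fun q hq => Subtype.ext (hc q ⟨q, hq, rfl⟩)), rfl⟩

theorem hasCharP_centralizer [Finite G] {p : ℕ} [Fact p.Prime] {T : Subgroup G}
    (h : HasCharP p ↥(normalizer (T : Set G))) : HasCharP p ↥(centralizer (T : Set G)) := by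
  have hle := centralizer_le_normalizer (T : Set G)
  refine hasCharP_equiv (subgroupOfEquivOfLe hle) (h.of_isSubnormal (Subgroup.Normal.isSubnormal ?_))
  refine ⟨fun c hc g => mem_subgroupOf.2 (mem_centralizer_iff.2 fun t ht => ?_)⟩
  have h' : (g : G)⁻¹ * t * g ∈ T := ((mem_normalizer_iff''.1 g.2) t).1 ht
  have := mem_centralizer_iff.1 (mem_subgroupOf.1 hc) _ h'
  show t * ((g : G) * c * (g : G)⁻¹) = (g : G) * c * (g : G)⁻¹ * t
  calc t * ((g : G) * c * (g : G)⁻¹) = g * ((g : G)⁻¹ * t * g * c) * (g : G)⁻¹ := by group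
    _ = g * (c * ((g : G)⁻¹ * t * g)) * (g : G)⁻¹ := by rw [this]
    _ = _ := by group

/-- Detecting subgroup of exponent `p` of a `p`-subgroup, inside `G`. -/
theorem exists_detect [Finite G] {p : ℕ} [hp : Fact p.Prime] (hp2 : p ≠ 2) {Q : Subgroup G}
    (hQ : IsPGroup p Q) :
    ∃ D ≤ Q, (∀ d ∈ D, d ^ p = 1) ∧ (∀ g ∈ normalizer (Q : Set G), ∀ d ∈ D, g * d * g⁻¹ ∈ D) ∧
      (∀ a ∈ D, ∀ b ∈ D, ∀ c ∈ D, ⁅a, b⁆ * c = c * ⁅a, b⁆) ∧
      ∀ g ∈ normalizer (Q : Set G), (orderOf g).Coprime p → (∀ d ∈ D, g * d = d * g) →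
        ∀ q ∈ Q, g * q = q * g := by
  obtain ⟨D, hDc, hexp, hcl, hdet⟩ := Techniques.SmallCritical.exists_detecting hQ
  refine ⟨D.map Q.subtype, map_subtype_le _, ?_, ?_, ?_, ?_⟩
  · rintro _ ⟨d, hd, rfl⟩
    have := hexp d hd
    rw [Techniques.SmallCritical.smallExp, if_neg hp2] at this
    exact congrArg Subtype.val this
  · rintro g hg _ ⟨d, hd, rfl⟩
    exact ⟨Q.normalizerMonoidHom ⟨g, hg⟩ d, characteristic_iff_map_le.1 hDc _ ⟨d, hd, rfl⟩, rfl⟩
  · rintro _ ⟨a, ha, rfl⟩ _ ⟨b, hb, rfl⟩ _ ⟨c, hc, rfl⟩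
    have := mem_centralizer_iff.1 (hcl (commutator_mem_commutator ha (mem_top b))) c hc
    exact (congrArg Subtype.val this).symm
  · intro g hg hgo hfix q hq
    have hao : (orderOf (Q.normalizerMonoidHom ⟨g, hg⟩)).Coprime p := Nat.Coprime.coprime_dvd_left
      ((orderOf_map_dvd _ _).trans (dvd_of_eq (Subgroup.orderOf_mk g hg))) hgo
    have h1 := hdet _ hao fun d hd => Subtype.ext (by
      show g * (d : G) * g⁻¹ = d
      rw [mul_inv_eq_iff_eq_mul, hfix d ⟨d, hd, rfl⟩])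
    have h2 := congrArg (fun a : MulAut Q => ((a ⟨q, hq⟩ : Q) : G)) h1
    exact mul_inv_eq_iff_eq_mul.1 h2

/-- A critical subgroup of a 2-subgroup, inside `G`. -/
theorem exists_critical_two [Finite G] {Q : Subgroup G} (hQ : IsPGroup 2 Q) :
    ∃ D ≤ Q, (∀ g ∈ normalizer (Q : Set G), ∀ d ∈ D, g * d * g⁻¹ ∈ D) ∧
      (∀ x ∈ D, ∀ c ∈ D, x ^ 2 * c = c * x ^ 2) ∧
      (∀ a ∈ D, ∀ b ∈ D, ∀ c ∈ D, ⁅a, b⁆ * c = c * ⁅a, b⁆) ∧
      (∀ q ∈ Q, (∀ d ∈ D, d * q = q * d) → q ∈ D) ∧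
      ∀ g ∈ normalizer (Q : Set G), (orderOf g).Coprime 2 → (∀ d ∈ D, g * d = d * g) →
        ∀ q ∈ Q, g * q = q * g := by
  obtain ⟨D, hDc, hpow, hcl, hC⟩ := Transfer.exists_critical hQ
  haveI : D.Normal := inferInstance
  refine ⟨D.map Q.subtype, map_subtype_le _, ?_, ?_, ?_, ?_, ?_⟩
  · rintro g hg _ ⟨d, hd, rfl⟩
    exact ⟨Q.normalizerMonoidHom ⟨g, hg⟩ d, characteristic_iff_map_le.1 hDc _ ⟨d, hd, rfl⟩, rfl⟩
  · rintro _ ⟨x, hx, rfl⟩ _ ⟨c, hc, rfl⟩
    exact (congrArg Subtype.val (mem_centralizer_iff.1 (hpow x hx).2 c hc)).symm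
  · rintro _ ⟨a, ha, rfl⟩ _ ⟨b, hb, rfl⟩ _ ⟨c, hc, rfl⟩
    have := mem_centralizer_iff.1 (hcl (commutator_mem_commutator ha (mem_top b))).2 c hc
    exact (congrArg Subtype.val this).symm
  · intro q hq hfix
    exact ⟨⟨q, hq⟩, hC (mem_centralizer_iff.2 fun d hd => Subtype.ext (hfix d ⟨d, hd, rfl⟩)), rfl⟩
  · intro g hg hgo hfix q hq
    have hao : (orderOf (Q.normalizerMonoidHom ⟨g, hg⟩)).Coprime 2 := Nat.Coprime.coprime_dvd_left
      ((orderOf_map_dvd _ _).trans (dvd_of_eq (Subgroup.orderOf_mk g hg))) hgo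
    have h1 := Transfer.aut_eq_one_of_fix_normal hQ D hC _ hao fun d hd => Subtype.ext (by
      show g * (d : G) * g⁻¹ = d
      rw [mul_inv_eq_iff_eq_mul, hfix d ⟨d, hd, rfl⟩])
    have h2 := congrArg (fun a : MulAut Q => ((a ⟨q, hq⟩ : Q) : G)) h1
    exact mul_inv_eq_iff_eq_mul.1 h2

/-! ### Hyperplanes -/

theorem card_of_relIndex_eq {q n : ℕ} (hq : q.Prime) {A B : Subgroup G} (hBA : B ≤ A)
    (hA : Nat.card A = q ^ (n + 1)) (hi : B.relIndex A = q) : Nat.card B = q ^ n := by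
  have h := relIndex_mul_relIndex ⊥ B A bot_le hBA
  rw [relIndex_bot_left, relIndex_bot_left, hi, hA, pow_succ] at h
  exact Nat.eq_of_mul_eq_mul_right hq.pos h

/-- A non-centralized coprime group has a fixed point of a hyperplane that is moved. -/
theorem exists_hyperplane_moved [Finite G] {q n : ℕ} [hq : Fact q.Prime] {A X : Subgroup G}
    (hA : IsElementaryAbelian q A) (hcard : Nat.card A = q ^ (n + 1))
    (hX : (Nat.card X).Coprime q) (hAX : A ≤ normalizer (X : Set G)) (R : Subgroup G)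
    (hR : ∀ x ∈ X, (∀ a ∈ A, a * x = x * a) → x ∈ R) (hXR : ¬ X ≤ R) :
    ∃ B ≤ A, Nat.card B = q ^ n ∧ ∃ x ∈ X, (∀ b ∈ B, b * x = x * b) ∧ x ∉ R := by
  by_contra hno
  push Not at hno
  refine hXR (le_of_hyperplanes hA hX hAX fun B hB hi x hx => ?_)
  have hc : ∀ b ∈ B, b * x = x * b := fun b hb => mem_centralizer_iff.1 hx.2 b hb
  rcases eq_or_ne (B.relIndex A) 1 with h1 | h1
  · exact hR x hx.1 fun a ha => hc a (relIndex_eq_one.1 h1 ha)
  · refine hno B hB (card_of_relIndex_eq hq.out hB hcard ?_) x hx.1 hc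
    have hdvd : B.relIndex A ∣ q ^ (n + 1) := hcard ▸ relIndex_dvd_card B A
    obtain ⟨j, -, hj⟩ := (Nat.dvd_prime_pow hq.out).1 hdvd
    rcases j with _ | _ | j
    · exact absurd (by simpa using hj) h1
    · simpa using hj
    · exfalso
      rw [hj] at hi
      have h2 : q ^ 2 ≤ q ^ (j + 1 + 1) := Nat.pow_le_pow_right hq.out.pos (by omega)
      have h3 := hq.out.two_le
      nlinarith

/-! ### Thompson's dihedral lemma and the rank bound -/

theorem dihedral [Finite G] {p : ℕ} [hp : Fact p.Prime] (hp2 : p ≠ 2) :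
    ∀ n : ℕ, ∀ E P : Subgroup G, IsElementaryAbelian 2 E → Nat.card E = 2 ^ (n + 1) → IsPGroup p P →
      E ≤ normalizer (P : Set G) → (∀ e ∈ E, (∀ x ∈ P, e * x = x * e) → e = 1) →
      ∃ X ≤ P, IsElementaryAbelian p X ∧ Nat.card X = p ^ n ∧
        (∃ f ∈ E, f ≠ 1 ∧ ∀ x ∈ X, f * x = x * f) ∧
        ∀ x ∈ X, (∀ e ∈ E, e * x = x * e) → x = 1 := by
  intro n
  induction n with
  | zero =>
    intro E P hE hcard _ _ _
    have hne : E ≠ ⊥ := fun h => by rw [h, Subgroup.card_bot] at hcard; norm_num at hcard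
    obtain ⟨f, hf, hf1⟩ := (Subgroup.ne_bot_iff_exists_ne_one (H := E)).1 hne |>.elim
      fun f hf => (⟨f, f.2, fun h => hf (Subtype.ext h)⟩ : ∃ f ∈ E, f ≠ 1)
    exact ⟨⊥, bot_le, PGroup.elemAb_bot p, by simp, ⟨f, hf, hf1, fun x hx => by simp [mem_bot.1 hx]⟩,
      fun x hx _ => mem_bot.1 hx⟩
  | succ n ih =>
    intro E P hE hcard hP hEP hfaith
    have hcop : (Nat.card P).Coprime 2 := by
      obtain ⟨j, hj⟩ := IsPGroup.iff_card.1 hP
      rw [hj]
      exact ((Nat.coprime_primes hp.out Nat.prime_two).2 hp2).pow_left j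
    obtain ⟨B, hBE, hBc, u, hu, huB, huR⟩ := exists_hyperplane_moved (n := n + 1) hE hcard hcop hEP
      (P ⊓ centralizer (E : Set G)) (fun x hx hc => ⟨hx, mem_centralizer_iff.2 hc⟩) (fun hle => by
        have hone : E = ⊥ := (eq_bot_iff_forall E).2 fun e he =>
          hfaith e he fun x hx => mem_centralizer_iff.1 (hle hx).2 e he
        rw [hone, Subgroup.card_bot] at hcard
        exact absurd hcard.symm (Nat.one_lt_two_pow (by omega)).ne')
    obtain ⟨e, heE, heu⟩ : ∃ e ∈ E, e * u ≠ u * e := by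
      by_contra hcon
      push Not at hcon
      exact huR ⟨hu, mem_centralizer_iff.2 hcon⟩
    have hee : e * e = 1 := by rw [← pow_two]; exact hE.2 e heE
    have heinv : e⁻¹ = e := inv_eq_of_mul_eq_one_right hee
    have hnP : ∀ x ∈ P, e * x * e ∈ P := fun x hx => by
      have := (mem_normalizer_iff.1 (hEP heE) x).1 hx
      rwa [heinv] at this
    obtain ⟨f, hf, m, hm, hum, hfe, hme, hcomm⟩ := exists_fixed_inverted hp2 hP hee hnP hu
    have hBm : ∀ b ∈ B, Commute b m := fun b hb =>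
      (hcomm b (huB b hb) (PGroup.elemAb_comm hE (hBE hb) heE)).2
    have hm1 : m ≠ 1 := by
      rintro rfl
      rw [mul_one] at hum
      refine heu ?_
      rw [hum]
      calc e * f = e * f * (e * e) := by rw [hee, mul_one]
        _ = (e * f * e) * e := by group
        _ = f * e := by rw [hfe]
    obtain ⟨x, ⟨i, rfl⟩, hxo⟩ : ∃ x, (∃ i : ℕ, m ^ i = x) ∧ orderOf x = p := by
      obtain ⟨k, hk⟩ := hP ⟨m, hm⟩
      obtain ⟨j, -, hj⟩ := (Nat.dvd_prime_pow hp.out).1 (orderOf_dvd_of_pow_eq_one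
        (congrArg Subtype.val hk : m ^ p ^ k = 1))
      have hj0 : j ≠ 0 := fun h => hm1 (orderOf_eq_one_iff.1 (by rw [hj, h, pow_zero]))
      refine ⟨m ^ p ^ (j - 1), ⟨_, rfl⟩, ?_⟩
      rw [orderOf_pow_of_dvd (pow_ne_zero _ hp.out.ne_zero) (hj ▸ pow_dvd_pow _ (Nat.sub_le _ _)), hj,
        Nat.pow_div (Nat.sub_le _ _) hp.out.pos, show j - (j - 1) = 1 by omega, pow_one]
    set x := m ^ i with hxdef
    have hxp : x ^ p = 1 := hxo ▸ pow_orderOf_eq_one x
    have hxe : e * x * e = x⁻¹ := by rw [hxdef, conj_pow_of_sq hee, hme, inv_pow]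
    have hBx : ∀ b ∈ B, Commute b x := fun b hb => (hBm b hb).pow_right i
    have hxP : x ∈ P := pow_mem hm i
    set P' := P ⊓ centralizer (zpowers x : Set G) with hP'
    have hBP' : B ≤ normalizer (P' : Set G) := Solvable.le_normalizer_of_conj_mem fun b hb y hy => by
      refine ⟨(mem_normalizer_iff.1 (hEP (hBE hb)) y).1 hy.1, mem_centralizer_iff.2 fun w hw => ?_⟩
      obtain ⟨j, rfl⟩ := mem_zpowers_iff.1 hw
      have h1 : Commute (x ^ j) y := mem_centralizer_iff.1 hy.2 _ hw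
      have h2 : Commute (x ^ j) b := ((hBx b hb).symm).zpow_left j
      exact (h2.mul_right h1).mul_right h2.inv_right
    have hfaith' : ∀ b ∈ B, (∀ y ∈ P', b * y = y * b) → b = 1 := by
      intro b hb hfix
      refine hfaith b (hBE hb) fun y hy => ?_
      have hzn : zpowers x ≤ normalizer (P : Set G) := zpowers_le.2 (le_normalizer hxP)
      refine (axb (P := zpowers x) (Q := P) (hP.to_le (zpowers_le.2 hxP)) hP hzn (hEP (hBE hb)) ?_
        (fun w hw => ?_) (fun c hc hcx => hfix c ⟨hc, mem_centralizer_iff.2 fun w hw => (hcx w hw).eq.symm⟩)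
        y hy).eq
      · exact Nat.Coprime.coprime_dvd_left (orderOf_dvd_of_pow_eq_one (hE.2 b (hBE hb)))
          ((Nat.coprime_primes Nat.prime_two hp.out).2 (Ne.symm hp2))
      · obtain ⟨j, rfl⟩ := mem_zpowers_iff.1 hw
        exact (hBx b hb).zpow_right j
    obtain ⟨X, hXP, hX, hXc, ⟨g, hg, hg1, hgX⟩, hXfix⟩ :=
      ih B P' (PGroup.elemAb_mono hE hBE) hBc (hP.to_le inf_le_left) hBP' hfaith'
    have hcx : ∀ a ∈ X, a * x = x * a := fun a ha =>
      (mem_centralizer_iff.1 (hXP ha).2 x (mem_zpowers x)).symm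
    have hx1 : x ≠ 1 := fun h => by rw [h, orderOf_one] at hxo; exact hp.out.ne_one hxo.symm
    have hxX : x ∉ X := fun h => hx1 (hXfix x h fun b hb => hBx b hb)
    refine ⟨X ⊔ zpowers x, sup_le (hXP.trans inf_le_left) (zpowers_le.2 hxP),
      elemAb_sup_zpowers hX hcx hxp, by rw [card_sup_zpowers hp.out hcx hxp hxX, hXc, pow_succ],
      ⟨g, hBE hg, hg1, ?_⟩, ?_⟩
    · intro y hy
      have hxy : ∀ a ∈ X, ∀ w ∈ zpowers x, a * w = w * a := fun a ha w hw => by
        obtain ⟨j, rfl⟩ := mem_zpowers_iff.1 hw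
        exact (show Commute a x from hcx a ha).zpow_right j
      obtain ⟨a, ha, w, hw, rfl⟩ := mem_sup_comm hxy hy
      obtain ⟨j, rfl⟩ := mem_zpowers_iff.1 hw
      exact (show Commute g a from hgX a ha).mul_right ((hBx g hg).zpow_right j)
    · intro y hy hfix
      have hxy : ∀ a ∈ X, ∀ w ∈ zpowers x, a * w = w * a := fun a ha w hw => by
        obtain ⟨j, rfl⟩ := mem_zpowers_iff.1 hw
        exact (show Commute a x from hcx a ha).zpow_right j
      obtain ⟨a, ha, w, hw, rfl⟩ := mem_sup_comm hxy hy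
      obtain ⟨j, rfl⟩ := mem_zpowers_iff.1 hw
      have ha1 : a = 1 := hXfix a ha fun b hb => by
        have h1 : Commute b (a * x ^ j) := hfix b (hBE hb)
        have h2 := h1.mul_right (((hBx b hb).zpow_right j).inv_right)
        rw [mul_inv_cancel_right] at h2
        exact h2
      subst ha1
      rw [one_mul] at hfix ⊢
      have h3 := hfix e heE
      have h4 : e * x ^ j * e = (x ^ j)⁻¹ := by
        calc e * x ^ j * e = e * x ^ j * e⁻¹ := by rw [heinv]
          _ = (e * x * e⁻¹) ^ j := conj_zpow.symm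
          _ = _ := by rw [heinv, hxe, inv_zpow]
      rw [h3, mul_assoc, hee, mul_one] at h4
      exact eq_one_of_sq hp2 hP (zpow_mem hxP j) (mul_eq_one_iff_eq_inv.2 h4)

/-- The standing hypotheses: both characteristic types, and `k` bounds the `p`-rank of centralizers of involutions. -/
structure Setup (p k : ℕ) (G : Type*) [Group G] : Prop where
  odd : p ≠ 2
  local_p : IsOfLocalCharacteristic p G
  type_two : IsCharacteristicTwoType G
  three : 3 ≤ k
  bound : ∀ A : Subgroup G, IsElementaryAbelian p A →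
    ∀ t : G, orderOf t = 2 → (∀ a ∈ A, a * t = t * a) → Nat.card A ≤ p ^ k

variable [Finite G] {p k : ℕ} [hp : Fact p.Prime]

theorem Setup.charP (hS : Setup p k G) {B : Subgroup G} (hB : IsPGroup p B) (hne : B ≠ ⊥) :
    HasCharP p ↥(centralizer (B : Set G)) :=
  hasCharP_centralizer (hS.local_p.2 B hB hne)

theorem Setup.charTwo (hS : Setup p k G) {T : Subgroup G} (hT : IsPGroup 2 T) (hne : T ≠ ⊥) :
    HasCharP 2 ↥(centralizer (T : Set G)) :=
  hasCharP_centralizer (hS.type_two.2 T hT hne)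

/-- The rank bound from the dihedral lemma. -/
theorem Setup.rank_bound (hS : Setup p k G) {B E : Subgroup G} {b n : ℕ} (hB : IsElementaryAbelian p B)
    (hBc : Nat.card B = p ^ b) (hb : 1 ≤ b) (hE : IsElementaryAbelian 2 E) (hEc : Nat.card E = 2 ^ (n + 1))
    (hBE : ∀ x ∈ B, ∀ e ∈ E, x * e = e * x) : b + n ≤ k := by
  have hBp : IsPGroup p B := IsPGroup.of_card hBc
  have hne : B ≠ ⊥ := fun h => by
    rw [h, Subgroup.card_bot] at hBc
    exact absurd hBc.symm (Nat.one_lt_pow (by omega) hp.out.one_lt).ne'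
  set C := centralizer (B : Set G) with hC
  have hchar : HasCharP p ↥C := hS.charP hBp hne
  have hEC : E ≤ C := fun e he => mem_centralizer_iff.2 fun x hx => hBE x hx e he
  have hBP : B ≤ coreOf p C := le_coreOf
    (fun x hx => mem_centralizer_iff.2 fun y hy => PGroup.elemAb_comm hB hy hx)
    (fun g hg x hx => by
      rw [← mem_centralizer_iff.1 hg x hx, mul_inv_cancel_right]
      exact hx) hBp
  obtain ⟨X, hXP, hX, hXc, ⟨f, hf, hf1, hfX⟩, hXfix⟩ := dihedral hS.odd n E (coreOf p C) hE hEc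
    (isPGroup_coreOf p C) (Solvable.le_normalizer_of_conj_mem fun e he x hx => conj_mem_coreOf (hEC he) hx)
    fun e he hfix => eq_one_of_mem_two hS.odd (isPGroup_coreOf p C) (PGroup.elemAb_isPGroup hE)
      (mem_coreOf_of_commute hchar (hEC he) fun q hq => (hfix q hq).symm) he
  have hc : ∀ x ∈ B, ∀ y ∈ X, x * y = y * x := fun x hx y hy =>
    mem_centralizer_iff.1 (coreOf_le p C (hXP hy)) x hx
  have hd : B ⊓ X = ⊥ := by
    rw [eq_bot_iff]
    exact fun x hx => mem_bot.2 (hXfix x hx.2 fun e he => (hBE x hx.1 e he).symm)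
  have hle := hS.bound (B ⊔ X) (PGroup.elemAb_sup hB hX hc) f
    (orderOf_eq_prime (hE.2 f hf) hf1) fun a ha => by
      obtain ⟨x, hx, y, hy, rfl⟩ := mem_sup_comm hc ha
      exact (show Commute (x * y) f from
        (show Commute x f from hBE x hx f hf).mul_left (show Commute y f from (hfX y hy).symm)).eq
  rw [card_sup_comm hc hd, hBc, hXc, ← pow_add] at hle
  exact (Nat.pow_le_pow_iff_right hp.out.one_lt).1 hle

end CfsgLib.KlingerMason
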