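import Cfsg.Agent.Lib.KlingerMason.Main

/-!
Klinger–Mason: in a group of both characteristic `p` and characteristic 2 type the 2-local `p`-rank is at most 2.
-/

namespace CfsgLib.KlingerMason

open Subgroup Cfsg CfsgLib.Cores CfsgLib.Local
open scoped commutatorElement

variable {G : Type*} [Group G] [Finite G] {p k : ℕ} [hp : Fact p.Prime]

theorem exists_order_two {H : Subgroup G} (hH : IsPGroup 2 H) (hne : H ≠ ⊥) :
    ∃ t ∈ H, orderOf t = 2 := by
  obtain ⟨j, hj⟩ := IsPGroup.iff_card.1 hH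
  obtain ⟨x, hx⟩ := exists_prime_orderOf_dvd_card' (G := ↥H) 2 (hj ▸ dvd_pow_self 2 fun h => hne
    (Subgroup.eq_bot_of_card_eq H (by rw [hj, h, pow_zero])))
  exact ⟨x, x.2, (Subgroup.orderOf_coe x).trans hx⟩

/-- A four-group `⟨x, x^a⟩`. -/
theorem exists_four {x x' : G} (hx : x * x = 1) (hx' : x' * x' = 1) (hc : Commute x x') (h1 : x ≠ 1) (hne : x' ≠ x)
    (h1' : x' ≠ 1) : IsElementaryAbelian 2 (zpowers x ⊔ zpowers x') ∧ Nat.card ↥(zpowers x ⊔ zpowers x') = 2 ^ 2 := by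
  have hxo : orderOf x = 2 := orderOf_eq_prime (by rw [pow_two, hx]) h1
  have hcx : ∀ w ∈ zpowers x, w * x' = x' * w := fun w hw => by
    obtain ⟨i, rfl⟩ := mem_zpowers_iff.1 hw
    exact (hc.zpow_left i).eq
  have hn : x' ∉ zpowers x := fun h => by
    obtain ⟨i, rfl⟩ := mem_zpowers_iff.1 h
    rcases Int.even_or_odd i with ⟨m, hm⟩ | ⟨m, hm⟩
    · exact h1' (by rw [hm, ← two_mul, zpow_mul, zpow_two, hx, one_zpow])
    · exact hne (by rw [hm, zpow_add, zpow_mul, zpow_two, hx, one_zpow, one_mul, zpow_one])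
  refine ⟨elemAb_sup_zpowers (elemAb_two_zpowers hxo) hcx (by rw [pow_two, hx']), ?_⟩
  rw [card_sup_zpowers Nat.prime_two hcx (by rw [pow_two, hx']) hn, Nat.card_zpowers, hxo]
  norm_num

theorem no_two_local (hS : Setup p k G) {A T : Subgroup G} (hA : IsElementaryAbelian p A)
    (hAc : Nat.card A = p ^ k) (hT : IsPGroup 2 T) (hTne : T ≠ ⊥) (hAT : A ≤ normalizer (T : Set G)) : False := by
  have hk := hS.three
  set H := normalizer (T : Set G) with hH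
  set Q := coreOf 2 H with hQdef
  have hQp : IsPGroup 2 Q := isPGroup_coreOf 2 H
  have hchar : HasCharP 2 ↥H := hS.type_two.2 T hT hTne
  have hTQ : T ≤ Q := le_coreOf le_normalizer (fun g hg x hx => (mem_normalizer_iff.1 hg x).1 hx) hT
  have hQne : Q ≠ ⊥ := fun h => hTne (eq_bot_iff.2 (h ▸ hTQ))
  have hconj : ∀ a ∈ A, ∀ q ∈ Q, a * q * a⁻¹ ∈ Q := fun a ha q hq => conj_mem_coreOf (hAT ha) hq
  have hA0 : ∀ q ∈ Q, (∀ a ∈ A, a * q = q * a) → q = 1 := by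
    intro q hq hfix
    by_contra hq1
    obtain ⟨t, ⟨htQ, htA⟩, hto⟩ := exists_order_two (H := Q ⊓ centralizer (A : Set G)) (hQp.to_le inf_le_left)
      fun h => hq1 (mem_bot.1 (h ▸ ⟨hq, mem_centralizer_iff.2 hfix⟩))
    exact no_centralized hS hA hAc hto (mem_centralizer_iff.1 htA)
  have hcopQ : (Nat.card Q).Coprime p := by
    obtain ⟨j, hj⟩ := IsPGroup.iff_card.1 hQp
    rw [hj]
    exact ((Nat.coprime_primes Nat.prime_two hp.out).2 (Ne.symm hS.odd)).pow_left j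
  have hpick : ∀ C : Subgroup G, Nat.card C = p ^ (k - 1) → ∃ a ∈ A, a ∉ C := fun C hCc => by
    by_contra hcon
    push Not at hcon
    have h1 := card_le_of_le (show A ≤ C from hcon)
    rw [hAc, hCc] at h1
    exact absurd h1 (not_le.2 (Nat.pow_lt_pow_right hp.out.one_lt (by omega)))
  -- an involution of the centre of `Q` and a hyperplane fixing it
  set U := omegaOne 2 (Q ⊓ centralizer (Q : Set G)) with hUdef
  have hUc : ∀ x ∈ Q ⊓ centralizer (Q : Set G), ∀ y ∈ Q ⊓ centralizer (Q : Set G), x * y = y * x :=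
    fun x hx y hy => mem_centralizer_iff.1 hy.2 x hx.1
  have hUQ : U ≤ Q := (PGroup.omegaOne_le _ _).trans inf_le_left
  have hcenter : ∀ H' : Subgroup G, IsPGroup 2 H' → H' ≠ ⊥ → ∃ t ∈ H', orderOf t = 2 ∧ ∀ y ∈ H', y * t = t * y := by
    intro H' hH' hne
    haveI : Nontrivial ↥H' := (nontrivial_iff_ne_bot H').2 hne
    haveI : Fact (Nat.Prime 2) := ⟨Nat.prime_two⟩
    obtain ⟨t, ht, hto⟩ := exists_order_two (H := (center ↥H').map H'.subtype) ((hH'.to_subgroup _).map _)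
      fun h => by
        have := hH'.center_nontrivial
        obtain ⟨⟨c, hc⟩, hc1⟩ := exists_ne (1 : center ↥H')
        have h2 : (c : G) ∈ (⊥ : Subgroup G) := h ▸ ⟨c, hc, rfl⟩
        exact hc1 (Subtype.ext (Subtype.ext (mem_bot.1 h2)))
    obtain ⟨c, hc, rfl⟩ := ht
    exact ⟨c, c.2, hto, fun y hy => congrArg Subtype.val (mem_center_iff.1 hc ⟨y, hy⟩)⟩
  obtain ⟨u, huQ, huo, huc⟩ := hcenter Q hQp hQne
  have huU : u ∈ U := PGroup.mem_omegaOne ⟨huQ, mem_centralizer_iff.2 huc⟩ (huo ▸ pow_orderOf_eq_one u)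
  have hUab : IsElementaryAbelian 2 U := PGroup.elemAb_omegaOne_of_comm hUc
  have hu1 : u ≠ 1 := fun h => by rw [h, orderOf_one] at huo; norm_num at huo
  have hAU : A ≤ normalizer (U : Set G) := Solvable.le_normalizer_of_conj_mem fun a ha x hx => by
    obtain ⟨⟨hxQ, hxc⟩, hx2⟩ := (PGroup.mem_omegaOne_iff_of_comm hUc).1 hx
    refine PGroup.mem_omegaOne ⟨hconj a ha x hxQ, mem_centralizer_iff.2 fun q hq => ?_⟩ ?_
    · have hq' : a⁻¹ * q * a ∈ Q := by simpa using hconj a⁻¹ (inv_mem ha) q hq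
      calc q * (a * x * a⁻¹) = a * ((a⁻¹ * q * a) * x) * a⁻¹ := by group
        _ = a * (x * (a⁻¹ * q * a)) * a⁻¹ := by rw [mem_centralizer_iff.1 hxc _ hq']
        _ = _ := by group
    · rw [conj_pow, hx2]; group
  obtain ⟨B₀, hB₀A, hB₀c, x, hxU, hxB₀, hx1⟩ := exists_hyperplane_moved (n := k - 1) hA
    (by rw [hAc, Nat.sub_add_cancel (by omega)])
    (Nat.Coprime.coprime_dvd_left (card_dvd_of_le hUQ) hcopQ) hAU ⊥
    (fun x hx hfix => mem_bot.2 (hA0 x (hUQ hx) hfix)) fun h => hu1 (mem_bot.1 (h huU))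
  rw [mem_bot] at hx1
  obtain ⟨b, hb, hb1⟩ : ∃ b ∈ B₀, b ≠ 1 := by
    by_contra hcon
    push Not at hcon
    rw [(eq_bot_iff_forall B₀).2 hcon, Subgroup.card_bot] at hB₀c
    exact absurd hB₀c.symm (Nat.one_lt_pow (by omega) hp.out.one_lt).ne'
  obtain ⟨B, hBA, hBc, w, hwQ, hwB, hwb⟩ := exists_hyperplane_moved (n := k - 1) hA
    (by rw [hAc, Nat.sub_add_cancel (by omega)]) hcopQ (Solvable.le_normalizer_of_conj_mem hconj)
    (Q ⊓ centralizer {b}) (fun y hy hfix => ⟨hy, mem_centralizer_singleton_iff.2 (hfix b (hB₀A hb)).symm⟩)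
    fun hle => hb1 (eq_one_of_mem_two hS.odd (PGroup.elemAb_isPGroup hA) hQp (hB₀A hb)
      (mem_coreOf_of_commute hchar (hAT (hB₀A hb)) fun q hq => mem_centralizer_singleton_iff.1 (hle hq).2))
  have hne : B₀ ≠ B := fun h =>
    hwb ⟨hwQ, mem_centralizer_singleton_iff.2 (hwB b (h ▸ hb)).symm⟩
  obtain ⟨v, ⟨hvQ, hvB⟩, hvo, hvc⟩ := hcenter (Q ⊓ centralizer (B : Set G)) (hQp.to_le inf_le_left) fun h =>
    hwb (by
      have : w = 1 := mem_bot.1 (h ▸ ⟨hwQ, mem_centralizer_iff.2 hwB⟩)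
      rw [this]; exact one_mem _)
  -- the two four-groups
  have hmk : ∀ C ≤ A, Nat.card C = p ^ (k - 1) → ∀ y ∈ Q, (∀ c ∈ C, c * y = y * c) → y ≠ 1 → y * y = 1 →
      (∀ a ∈ A, Commute y (a * y * a⁻¹)) →
      ∃ E : Subgroup G, IsElementaryAbelian 2 E ∧ Nat.card E = 2 ^ 2 ∧ E ≤ Q ⊓ centralizer (C : Set G) ∧
        ∀ q ∈ Q, Commute q y → (∀ a ∈ A, Commute q (a * y * a⁻¹)) → ∀ e ∈ E, Commute q e := by
    intro C hCA hCc y hyQ hyC hy1 hy2 hyc
    obtain ⟨a, ha, haC⟩ := hpick C hCc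
    have hne' : a * y * a⁻¹ ≠ y := fun h => hy1 (hA0 y hyQ
      (commute_sup (hyper_sup (by omega) hA hAc hCA hCc ha haC) hyC (mul_inv_eq_iff_eq_mul.1 h)))
    have hy2' : a * y * a⁻¹ * (a * y * a⁻¹) = 1 := by
      rw [show a * y * a⁻¹ * (a * y * a⁻¹) = a * (y * y) * a⁻¹ by group, hy2]; group
    obtain ⟨hE, hEc⟩ := exists_four hy2 hy2' (hyc a ha) hy1 hne' fun h => hy1 (by simpa using h)
    refine ⟨_, hE, hEc, sup_le (zpowers_le.2 ⟨hyQ, mem_centralizer_iff.2 hyC⟩)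
      (zpowers_le.2 ⟨hconj a ha y hyQ, mem_centralizer_iff.2 fun c hc => ?_⟩), fun q hq h1 h2 e he => ?_⟩
    · have h1 : Commute c a := PGroup.elemAb_comm hA (hCA hc) ha
      exact ((h1.mul_right (hyC c hc)).mul_right h1.inv_right).eq
    · have hle : zpowers y ⊔ zpowers (a * y * a⁻¹) ≤ centralizer ({q} : Set G) :=
        sup_le (zpowers_le.2 (mem_centralizer_singleton_iff.2 h1.symm.eq))
          (zpowers_le.2 (mem_centralizer_singleton_iff.2 (h2 a ha).symm.eq))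
      exact (mem_centralizer_singleton_iff.1 (hle he)).symm
  obtain ⟨⟨hxQ, hxc⟩, hx2⟩ := (PGroup.mem_omegaOne_iff_of_comm hUc).1 hxU
  have hxall : ∀ a ∈ A, ∀ q ∈ Q, Commute q (a * x * a⁻¹) := fun a ha q hq =>
    mem_centralizer_iff.1
      (PGroup.omegaOne_le _ _ ((mem_normalizer_iff.1 (hAU ha) x).1 hxU)).2 q hq
  obtain ⟨E₁, hE₁, hE₁c, hE₁Q, hE₁g⟩ := hmk B₀ hB₀A hB₀c x hxQ hxB₀ hx1 (by rw [← pow_two]; exact hx2)
    fun a ha => hxall a ha x hxQ
  obtain ⟨E₂, hE₂, hE₂c, hE₂Q, -⟩ := hmk B hBA hBc v hvQ (mem_centralizer_iff.1 hvB)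
    (fun h => by rw [h, orderOf_one] at hvo; norm_num at hvo)
    (by rw [← pow_two, ← hvo, pow_orderOf_eq_one]) fun a ha =>
      (hvc _ ⟨hconj a ha v hvQ, mem_centralizer_iff.2 fun c hc => by
        have h1 : Commute c a := PGroup.elemAb_comm hA (hBA hc) ha
        exact ((h1.mul_right (mem_centralizer_iff.1 hvB c hc)).mul_right h1.inv_right).eq⟩).symm
  have hcE : ∀ e₁ ∈ E₁, ∀ e₂ ∈ E₂, e₁ * e₂ = e₂ * e₁ := fun e₁ h₁ e₂ h₂ =>
    (hE₁g e₂ (hE₂Q h₂).1 (mem_centralizer_iff.1 hxc e₂ (hE₂Q h₂).1)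
      (fun a ha => hxall a ha e₂ (hE₂Q h₂).1) e₁ h₁).symm.eq
  obtain ⟨b', hb', hb'B⟩ : ∃ b' ∈ B, b' ∉ B₀ := by
    by_contra hcon
    push Not at hcon
    exact hne (Subgroup.eq_of_le_of_card_ge hcon (by rw [hBc, hB₀c])).symm
  have hd : E₁ ⊓ E₂ = ⊥ := (eq_bot_iff_forall _).2 fun e ⟨h1, h2⟩ => hA0 e (hE₁Q h1).1
    (commute_sup (hyper_sup (by omega) hA hAc hB₀A hB₀c (hBA hb') hb'B)
      (mem_centralizer_iff.1 (hE₁Q h1).2) (mem_centralizer_iff.1 (hE₂Q h2).2 b' hb'))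
  have h := hS.rank_bound (b := k - 2) (n := 3) (PGroup.elemAb_mono hA (inf_le_left.trans hB₀A))
    (hyper_inf (by omega) hA hAc hB₀A hB₀c hBA hBc hne) (by omega) (PGroup.elemAb_sup hE₁ hE₂ hcE)
    (by rw [card_sup_comm hcE hd, hE₁c, hE₂c]; norm_num) fun c hc e he => by
      obtain ⟨e₁, h₁, e₂, h₂, rfl⟩ := mem_sup_comm hcE he
      exact ((show Commute c e₁ from mem_centralizer_iff.1 (hE₁Q h₁).2 c hc.1).mul_right
        (show Commute c e₂ from mem_centralizer_iff.1 (hE₂Q h₂).2 c hc.2)).eq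
  omega

omit hp in
theorem two_local_rank_le_two [Fact p.Prime] (hp2 : p ≠ 2) (hGp : IsOfLocalCharacteristic p G)
    (hG2 : IsCharacteristicTwoType G) : TwoLocalPRankLE p 2 G := by
  classical
  have hpr : p.Prime := Fact.out
  rintro H ⟨T, hT, hTne, rfl⟩ A₀ hA₀c hA₀p
  by_contra hcon
  set P : ℕ → Prop := fun n => ∃ A T : Subgroup G, IsElementaryAbelian p A ∧ IsPGroup 2 T ∧ T ≠ ⊥ ∧
    A ≤ normalizer (T : Set G) ∧ Nat.card A = p ^ n with hP
  have hA₁ : IsElementaryAbelian p (A₀.map (normalizer (T : Set G)).subtype) :=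
    PGroup.elemAb_map (PGroup.isElementaryAbelian_mk
      (fun a ha b hb => congrArg Subtype.val (hA₀c.is_comm.comm (⟨a, ha⟩ : A₀) ⟨b, hb⟩)) hA₀p) _
  obtain ⟨j, hj⟩ := exists_card_pow hA₁
  have hPj : P j := ⟨_, T, hA₁, hT, hTne, map_subtype_le _, hj⟩
  have hbd : ∀ n, P n → n ≤ Nat.card G := fun n ⟨A, _, _, _, _, _, hn⟩ =>
    (Nat.lt_pow_self hpr.one_lt).le.trans (hn ▸ card_le_card_group A)
  set k := Nat.findGreatest P (Nat.card G) with hk
  have hPk : P k := Nat.findGreatest_spec (hbd j hPj) hPj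
  have hjk : j ≤ k := Nat.le_findGreatest (hbd j hPj) hPj
  have hj3 : 3 ≤ j := by
    by_contra hlt
    rw [Subgroup.card_map_of_injective (normalizer (T : Set G)).subtype_injective] at hj
    exact hcon (hj ▸ Nat.pow_le_pow_right hpr.pos (by omega))
  have hS : Setup p k G := ⟨hp2, hGp, hG2, hj3.trans hjk, fun A hA t ht hAt => by
    obtain ⟨n, hn⟩ := exists_card_pow hA
    have hne : zpowers t ≠ ⊥ := fun h => by
      rw [zpowers_eq_bot] at h
      rw [h, orderOf_one] at ht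
      norm_num at ht
    have hPn : P n := ⟨A, zpowers t, hA, PGroup.elemAb_isPGroup (elemAb_two_zpowers ht), hne,
      fun a ha => centralizer_le_normalizer _ (mem_cent_zpowers.2 (hAt a ha)), hn⟩
    exact hn ▸ Nat.pow_le_pow_right hpr.pos (Nat.le_findGreatest (hbd n hPn) hPn)⟩
  obtain ⟨A, T', hA, hT', hne', hle, hc⟩ := hPk
  exact no_two_local hS hA hc hT' hne' hle

end CfsgLib.KlingerMason
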