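import Cfsg.Agent.Lib.KlingerMason.Basic
import Cfsg.Agent.Lib.PGroup.Basic
import Cfsg.Agent.Lib.PGroup.Counting

/-!
Klinger–Mason: a pair anticommuting modulo an inverting involution leaves no quotient of prime order invariant,
so an element of order `p` commuting with such a pair acts on a group of order at most `p ^ 4` quadratically.
-/

namespace CfsgLib.KlingerMason

open Subgroup Cfsg
open scoped commutatorElement

variable {G : Type*} [Group G] [Finite G] {p : ℕ} [hp : Fact p.Prime]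

theorem exists_card_pow {W : Subgroup G} (hW : IsElementaryAbelian p W) : ∃ a, Nat.card W = p ^ a :=
  IsPGroup.iff_card.1 (PGroup.elemAb_isPGroup hW)

theorem sq_notMem (hp2 : p ≠ 2) {W J : Subgroup G} (hW : IsElementaryAbelian p W) {y : G} (hy : y ∈ W)
    (hyn : y ∉ J) : y * y ∉ J := fun h => hyn (by
  obtain ⟨r, hr⟩ := hp.out.odd_of_ne_two hp2
  have h1 : (y * y) ^ (r + 1) = y := by
    rw [← pow_two, ← pow_mul, show 2 * (r + 1) = p + 1 by omega, pow_succ, hW.2 y hy, one_mul]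
  exact h1 ▸ pow_mem h _)

theorem two_le_relIndex (hp2 : p ≠ 2) {W J J₂ : Subgroup G} {e r₁ r₂ : G} (hW : IsElementaryAbelian p W)
    (hee : e * e = 1) (hinv : ∀ w ∈ W, e * w * e = w⁻¹) (hrel : r₁ * r₂ = e * (r₂ * r₁)) (hJ : J ≤ J₂)
    (hJW : J₂ ≤ W) (h1 : ∀ x ∈ J, r₁ * x * r₁⁻¹ ∈ J) (h2 : ∀ x ∈ J, r₂ * x * r₂⁻¹ ∈ J)
    (h1' : ∀ x ∈ J₂, r₁ * x * r₁⁻¹ ∈ J₂) (h2' : ∀ x ∈ J₂, r₂ * x * r₂⁻¹ ∈ J₂) (hne : J ≠ J₂) :
    p ^ 2 * Nat.card J ≤ Nat.card J₂ := by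
  have h := relIndex_mul_relIndex ⊥ J J₂ bot_le hJ
  rw [relIndex_bot_left, relIndex_bot_left] at h
  obtain ⟨a, ha⟩ := exists_card_pow (PGroup.elemAb_mono hW hJW)
  obtain ⟨i, -, hi⟩ := (Nat.dvd_prime_pow hp.out).1 (ha ▸ relIndex_dvd_card J J₂)
  rcases lt_or_ge i 2 with hlt | hge
  swap
  · rw [← h, mul_comm (Nat.card J), hi]
    exact Nat.mul_le_mul_right _ (Nat.pow_le_pow_right hp.out.pos hge)
  exfalso
  rcases i with _ | _ | i
  · exact hne (le_antisymm hJ (relIndex_eq_one.1 (by simpa using hi)))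
  swap
  · omega
  rw [pow_one] at hi
  rw [hi] at h
  obtain ⟨x, hx, hxJ⟩ : ∃ x ∈ J₂, x ∉ J := by
    by_contra hcon
    push Not at hcon
    exact hne (le_antisymm hJ hcon)
  have hcomm : ∀ a ∈ J, a * x = x * a := fun a ha' => PGroup.elemAb_comm hW (hJW (hJ ha')) (hJW hx)
  have htop : J ⊔ zpowers x = J₂ := Subgroup.eq_of_le_of_card_ge (sup_le hJ (zpowers_le.2 hx)) (le_of_eq <| by
    rw [card_sup_zpowers hp.out hcomm (hW.2 x (hJW hx)) hxJ, h])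
  have hdec : ∀ r : G, r * x * r⁻¹ ∈ J₂ → ∃ n : ℤ, ∃ j ∈ J, r * x * r⁻¹ = j * x ^ n := by
    intro r hr
    rw [← htop] at hr
    obtain ⟨j, hj, w, hw, hjw⟩ := mem_sup_comm (fun a ha' b hb => by
      obtain ⟨n, rfl⟩ := mem_zpowers_iff.1 hb
      exact (show Commute a x from hcomm a ha').zpow_right n) hr
    obtain ⟨n, rfl⟩ := mem_zpowers_iff.1 hw
    exact ⟨n, j, hj, hjw.symm⟩
  obtain ⟨n₁, j₁, hj₁, e₁⟩ := hdec r₁ (h1' x hx)
  obtain ⟨n₂, j₂, hj₂, e₂⟩ := hdec r₂ (h2' x hx)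
  have key : ∀ (r r' j j' : G) (n n' : ℤ), (∀ y ∈ J, r * y * r⁻¹ ∈ J) → j ∈ J → j' ∈ J →
      r * x * r⁻¹ = j * x ^ n → r' * x * r'⁻¹ = j' * x ^ n' →
      ∃ a ∈ J, r * r' * x * (r * r')⁻¹ = a * x ^ (n * n') := by
    intro r r' j j' n n' hr hj hj' er er'
    refine ⟨r * j' * r⁻¹ * j ^ n', mul_mem (hr j' hj') (zpow_mem hj n'), ?_⟩
    have hc : Commute j (x ^ n) := (show Commute j x from hcomm j hj).zpow_right n
    calc r * r' * x * (r * r')⁻¹ = r * (r' * x * r'⁻¹) * r⁻¹ := by group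
      _ = r * j' * r⁻¹ * (r * x ^ n' * r⁻¹) := by rw [er']; group
      _ = r * j' * r⁻¹ * (r * x * r⁻¹) ^ n' := by rw [conj_zpow]
      _ = _ := by rw [er, hc.mul_zpow, ← zpow_mul]; group
  obtain ⟨a₁, ha₁, f₁⟩ := key r₁ r₂ j₁ j₂ n₁ n₂ h1 hj₁ hj₂ e₁ e₂
  obtain ⟨a₂, ha₂, f₂⟩ := key r₂ r₁ j₂ j₁ n₂ n₁ h2 hj₂ hj₁ e₂ e₁
  set y := r₂ * r₁ * x * (r₂ * r₁)⁻¹ with hy
  have hyJ2 : y ∈ J₂ := by
    rw [f₂]; exact mul_mem (hJ ha₂) (zpow_mem hx _)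
  have hinv' : r₁ * r₂ * x * (r₁ * r₂)⁻¹ = y⁻¹ := by
    rw [← hinv y (hJW hyJ2), hy, hrel, mul_inv_rev, inv_eq_of_mul_eq_one_right hee]; group
  have hyy : y * y ∈ J := by
    have : y * y = a₂ * a₁⁻¹ := by
      calc y * y = y * (r₁ * r₂ * x * (r₁ * r₂)⁻¹)⁻¹ := by rw [hinv', inv_inv]
        _ = _ := by rw [f₂, f₁, mul_comm n₁ n₂]; group
    rw [this]
    exact mul_mem ha₂ (inv_mem ha₁)
  have hyJ : y ∈ J := by
    by_contra hyn
    exact sq_notMem hp2 hW (hJW hyJ2) hyn hyy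
  have hback : ∀ r, (∀ z ∈ J, r * z * r⁻¹ ∈ J) → ∀ w, r * w * r⁻¹ ∈ J → w ∈ J := by
    intro r hr w hw
    have hrn : r ∈ normalizer (J : Set G) := Solvable.mem_normalizer_of_conj_mem hr
    exact (mem_normalizer_iff.1 hrn w).2 hw
  refine hxJ (hback r₁ h1 x (hback r₂ h2 (r₁ * x * r₁⁻¹) ?_))
  rw [show r₂ * (r₁ * x * r₁⁻¹) * r₂⁻¹ = y by rw [hy]; group]
  exact hyJ

/-- An element of order `p` fixes a nontrivial element of a nontrivial `p`-group that it normalizes. -/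
theorem fixed_ne_bot {W : Subgroup G} (hW : IsElementaryAbelian p W) (hne : W ≠ ⊥) {b : G} (hb : b ^ p = 1)
    (hn : ∀ w ∈ W, b * w * b⁻¹ ∈ W) : W ⊓ centralizer {b} ≠ ⊥ := by
  by_cases hbW : b ∈ W
  · rwa [inf_eq_left.2 fun w hw => mem_centralizer_singleton_iff.2 (PGroup.elemAb_comm hW hw hbW)]
  have hbN : zpowers b ≤ normalizer (W : Set G) := zpowers_le.2 (Solvable.mem_normalizer_of_conj_mem hn)
  set M := W ⊔ zpowers b with hMdef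
  have hbb : orderOf b = p := orderOf_eq_prime hb fun h => hbW (h ▸ one_mem W)
  obtain ⟨a, ha⟩ := exists_card_pow hW
  have hM : IsPGroup p M := IsPGroup.of_card (n := a + 1) <| by
    rw [hMdef, Solvable.card_sup_of_disjoint hbN (inf_zpowers_eq_bot hp.out hb hbW), ha, Nat.card_zpowers, hbb,
      pow_succ]
  haveI : (W.subgroupOf M).Normal :=
    (normal_subgroupOf_iff le_sup_left).2 fun w m hw hm =>
      (mem_normalizer_iff.1 (sup_le le_normalizer hbN hm) w).1 hw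
  intro hbot
  refine PGroup.inf_center_ne_bot hM (W.subgroupOf M) ?_ ?_
  · rw [Ne, subgroupOf_eq_bot, disjoint_iff, inf_eq_left.2 le_sup_left]
    exact hne
  · rw [eq_bot_iff]
    rintro w ⟨hwW, hwc⟩
    have h1 : (b : G) * w = w * b :=
      congrArg Subtype.val (mem_center_iff.1 hwc ⟨b, le_sup_right (a := W) (mem_zpowers b)⟩)
    have h2 : (w : G) ∈ (⊥ : Subgroup G) := hbot ▸ ⟨hwW, mem_centralizer_singleton_iff.2 h1.symm⟩
    exact mem_bot.2 (Subtype.ext (mem_bot.1 h2))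

/-- Quadratic action. -/
theorem quad (hp2 : p ≠ 2) {W : Subgroup G} {e r₁ r₂ b : G} (hW : IsElementaryAbelian p W)
    (hWc : Nat.card W ≤ p ^ 4) (hee : e * e = 1) (hinv : ∀ w ∈ W, e * w * e = w⁻¹)
    (hrel : r₁ * r₂ = e * (r₂ * r₁)) (h1 : ∀ w ∈ W, r₁ * w * r₁⁻¹ ∈ W) (h2 : ∀ w ∈ W, r₂ * w * r₂⁻¹ ∈ W)
    (hb1 : Commute b r₁) (hb2 : Commute b r₂) (hb : b ^ p = 1) (hbn : ∀ w ∈ W, b * w * b⁻¹ ∈ W)
    (hmv : ¬ ∀ w ∈ W, b * w = w * b) :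
    Nat.card ↥(W ⊓ centralizer {b}) = p ^ 2 ∧ Nat.card W = p ^ 4 ∧
      ∀ w ∈ W, b * w * b⁻¹ * w⁻¹ ∈ W ⊓ centralizer {b} := by
  have hWne : W ≠ ⊥ := fun h => hmv fun w hw => by
    rw [h, mem_bot] at hw
    simp [hw]
  set F := W ⊓ centralizer {b} with hF
  have hFW : F ≤ W := inf_le_left
  have hinvF : ∀ r, Commute b r → (∀ w ∈ W, r * w * r⁻¹ ∈ W) → ∀ w ∈ F, r * w * r⁻¹ ∈ F := fun r hbr hr w hw =>
    ⟨hr w hw.1, mem_centralizer_singleton_iff.2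
      ((hbr.mul_right (show Commute b w from (mem_centralizer_singleton_iff.1 hw.2).symm)).mul_right
        hbr.inv_right).eq.symm⟩
  have hbot : ∀ r : G, ∀ x ∈ (⊥ : Subgroup G), r * x * r⁻¹ ∈ (⊥ : Subgroup G) := fun r x hx => by
    simp [mem_bot.1 hx]
  have hFne : F ≠ ⊥ := fixed_ne_bot hW hWne hb hbn
  have hF2 : p ^ 2 ≤ Nat.card F := by
    simpa using two_le_relIndex hp2 hW hee hinv hrel (bot_le (a := F)) hFW (hbot r₁) (hbot r₂)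
      (hinvF r₁ hb1 h1) (hinvF r₂ hb2 h2) (Ne.symm hFne)
  have hFW2 : p ^ 2 * Nat.card F ≤ Nat.card W :=
    two_le_relIndex hp2 hW hee hinv hrel hFW le_rfl (hinvF r₁ hb1 h1) (hinvF r₂ hb2 h2) h1 h2 fun h =>
      hmv fun w hw => (mem_centralizer_singleton_iff.1 ((h ▸ hw : w ∈ F)).2).symm
  have hFc : Nat.card F = p ^ 2 := by
    refine le_antisymm (Nat.le_of_mul_le_mul_left ?_ (pow_pos hp.out.pos 2)) hF2
    rw [← pow_add]
    exact hFW2.trans hWc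
  have hWc' : Nat.card W = p ^ 4 := le_antisymm hWc (by rw [hFc, ← pow_add] at hFW2; exact hFW2)
  refine ⟨hFc, hWc', ?_⟩
  let T : W →* G := MonoidHom.mk' (fun w => b * w * b⁻¹ * (w : G)⁻¹) fun w v => by
    have hwv : Commute ((w : G)⁻¹) (b * v * b⁻¹ * (v : G)⁻¹) :=
      PGroup.elemAb_comm hW (inv_mem w.2) (mul_mem (hbn v v.2) (inv_mem v.2))
    calc b * (w * v : W) * b⁻¹ * ((w * v : W) : G)⁻¹
        = b * w * b⁻¹ * (b * v * b⁻¹ * (v : G)⁻¹ * (w : G)⁻¹) := by push_cast; group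
      _ = _ := by rw [← hwv.eq]; group
  have hRW : T.range ≤ W := by
    rintro _ ⟨w, rfl⟩
    exact mul_mem (hbn w w.2) (inv_mem w.2)
  have hRinv : ∀ r, Commute b r → (∀ w ∈ W, r * w * r⁻¹ ∈ W) → ∀ x ∈ T.range, r * x * r⁻¹ ∈ T.range := by
    rintro r hbr hr _ ⟨w, rfl⟩
    refine ⟨⟨r * w * r⁻¹, hr w w.2⟩, ?_⟩
    show b * (r * w * r⁻¹) * b⁻¹ * (r * w * r⁻¹)⁻¹ = r * (b * w * b⁻¹ * (w : G)⁻¹) * r⁻¹
    calc b * (r * w * r⁻¹) * b⁻¹ * (r * w * r⁻¹)⁻¹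
        = (b * r) * w * (b * r)⁻¹ * r * (w : G)⁻¹ * r⁻¹ := by group
      _ = _ := by rw [hbr.eq]; group
  have hker : T.ker = F.subgroupOf W := by
    ext w
    rw [MonoidHom.mem_ker, mem_subgroupOf, hF, mem_inf, mem_centralizer_singleton_iff]
    show b * w * b⁻¹ * (w : G)⁻¹ = 1 ↔ _
    rw [mul_inv_eq_one, mul_inv_eq_iff_eq_mul]
    exact ⟨fun h => ⟨w.2, h.symm⟩, fun h => h.2.symm⟩
  have hRc : Nat.card T.range = p ^ 2 := by
    have h := T.ker.card_mul_index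
    rw [index_ker, hker, Nat.card_congr (subgroupOfEquivOfLe hFW).toEquiv, hFc, hWc',
      show p ^ 4 = p ^ 2 * p ^ 2 by rw [← pow_add]] at h
    exact Nat.eq_of_mul_eq_mul_left (pow_pos hp.out.pos 2) h
  have hRF : T.range ⊓ centralizer {b} ≠ ⊥ := fixed_ne_bot (PGroup.elemAb_mono hW hRW) (fun h => by
    rw [h, Subgroup.card_bot] at hRc
    exact absurd hRc.symm (Nat.one_lt_pow (by omega) hp.out.one_lt).ne') hb (hRinv b (Commute.refl b) hbn)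
  have hinvRF : ∀ r, Commute b r → (∀ w ∈ W, r * w * r⁻¹ ∈ W) →
      ∀ x ∈ T.range ⊓ centralizer {b}, r * x * r⁻¹ ∈ T.range ⊓ centralizer {b} := fun r hbr hr x hx =>
    ⟨hRinv r hbr hr x hx.1, (hinvF r hbr hr x ⟨hRW hx.1, hx.2⟩).2⟩
  have hge : p ^ 2 ≤ Nat.card ↥(T.range ⊓ centralizer {b}) := by
    simpa using two_le_relIndex hp2 hW hee hinv hrel (bot_le (a := T.range ⊓ centralizer {b}))
      (inf_le_left.trans hRW) (hbot r₁) (hbot r₂) (hinvRF r₁ hb1 h1) (hinvRF r₂ hb2 h2) (Ne.symm hRF)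
  have heq := Subgroup.eq_of_le_of_card_ge (inf_le_left : T.range ⊓ centralizer {b} ≤ _) (hRc ▸ hge)
  intro w hw
  have h3 : T ⟨w, hw⟩ ∈ T.range := ⟨_, rfl⟩
  exact ⟨hRW h3, (heq.symm ▸ h3 : T ⟨w, hw⟩ ∈ T.range ⊓ centralizer {b}).2⟩

end CfsgLib.KlingerMason
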