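import Cfsg.Agent.Lib.KlingerMason.Triple
import Cfsg.Agent.Lib.KlingerMason.Quad

/-!
Klinger–Mason: no elementary group of rank `k ≥ 3` centralizes an involution.
-/

namespace CfsgLib.KlingerMason

open Subgroup Cfsg CfsgLib.Cores CfsgLib.Local
open scoped commutatorElement

variable {G : Type*} [Group G]

/-- The elements of an abelian subgroup inverted by `i`. -/
def invertedIn (H : Subgroup G) (hc : ∀ a ∈ H, ∀ b ∈ H, a * b = b * a) (i : G) (hi : i * i = 1) : Subgroup G where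
  carrier := {u | u ∈ H ∧ i * u * i = u⁻¹}
  one_mem' := ⟨one_mem H, by rw [mul_one, hi, inv_one]⟩
  mul_mem' := fun {u v} hu hv => ⟨mul_mem hu.1 hv.1, by
    calc i * (u * v) * i = i * u * (i * i) * v * i := by rw [hi]; group
      _ = (i * u * i) * (i * v * i) := by group
      _ = u⁻¹ * v⁻¹ := by rw [hu.2, hv.2]
      _ = _ := by rw [← mul_inv_rev, hc v hv.1 u hu.1]⟩
  inv_mem' := fun {u} hu => ⟨inv_mem hu.1, by
    calc i * u⁻¹ * i = (i⁻¹ * u * i⁻¹)⁻¹ := by group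
      _ = _ := by rw [inv_eq_of_mul_eq_one_right hi, hu.2]⟩

theorem mem_invertedIn {H : Subgroup G} {hc : ∀ a ∈ H, ∀ b ∈ H, a * b = b * a} {i : G} {hi : i * i = 1} {u : G} :
    u ∈ invertedIn H hc i hi ↔ u ∈ H ∧ i * u * i = u⁻¹ := Iff.rfl

theorem commute_of_conj_eq {i x : G} (hi : i * i = 1) (h : i * x * i = x) : Commute i x := by
  calc i * x = i * x * (i * i) := by rw [hi, mul_one]
    _ = i * x * i * i := by group
    _ = x * i := by rw [h]

theorem conj_eq_of_commute {i x : G} (hi : i * i = 1) (h : Commute i x) : i * x * i = x := by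
  rw [h.eq, mul_assoc, hi, mul_one]

variable [Finite G] {p k : ℕ} [hp : Fact p.Prime]

theorem exists_member_notMem (hS : Setup p k G) {A D : Subgroup G} {z : G} (W : World p k A z D)
    (hA : IsElementaryAbelian p A) (hAc : Nat.card A = p ^ k) (hzA : ∀ a ∈ A, a * z = z * a) {c : G}
    (hc : c ∈ A) (hc1 : c ≠ 1) :
    ∃ B ≤ A, Nat.card B = p ^ (k - 1) ∧ Member A D B ∧ c ∉ B := by
  have hk := hS.three
  have hD : (Nat.card D).Coprime p := by
    obtain ⟨j, hj⟩ := IsPGroup.iff_card.1 W.two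
    rw [hj]
    exact ((Nat.coprime_primes Nat.prime_two hp.out).2 (Ne.symm hS.odd)).pow_left j
  obtain ⟨B, hBA, hBc, x, hx, hxB, hxR⟩ := exists_hyperplane_moved (n := k - 1) hA
    (by rw [hAc, Nat.sub_add_cancel (by omega)]) hD
    (Solvable.le_normalizer_of_conj_mem fun a ha d hd => W.conj a (hzA a ha) d hd) (D ⊓ centralizer {c})
    (fun x hx hfix => ⟨hx, mem_centralizer_singleton_iff.2 (hfix c hc).symm⟩)
    fun hle => hc1 (W.faithful c hc fun d hd => (mem_centralizer_singleton_iff.1 (hle hd).2).symm)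
  exact ⟨B, hBA, hBc, ⟨x, hx, hxB, fun h => hxR ⟨hx, mem_centralizer_singleton_iff.2 (h c hc).symm⟩⟩,
    fun hcB => hxR ⟨hx, mem_centralizer_singleton_iff.2 (hxB c hcB).symm⟩⟩

theorem exists_two_members (hS : Setup p k G) {A D : Subgroup G} {z : G} (W : World p k A z D)
    (hA : IsElementaryAbelian p A) (hAc : Nat.card A = p ^ k) (hzA : ∀ a ∈ A, a * z = z * a) {c : G}
    (hc : c ∈ A) (hc1 : c ≠ 1) :
    ∃ B B', B ≤ A ∧ Nat.card B = p ^ (k - 1) ∧ Member A D B ∧ B' ≤ A ∧ Nat.card B' = p ^ (k - 1) ∧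
      Member A D B' ∧ B ≠ B' ∧ c ∉ B := by
  have hk := hS.three
  obtain ⟨B, hBA, hBc, hBm, hcB⟩ := exists_member_notMem hS W hA hAc hzA hc hc1
  obtain ⟨b, hb, hb1⟩ : ∃ b ∈ B, b ≠ 1 := by
    by_contra hcon
    push Not at hcon
    rw [(eq_bot_iff_forall B).2 hcon, Subgroup.card_bot] at hBc
    exact absurd hBc.symm (Nat.one_lt_pow (by omega) hp.out.one_lt).ne'
  obtain ⟨B', hBA', hBc', hBm', hbB'⟩ := exists_member_notMem hS W hA hAc hzA (hBA hb) hb1
  exact ⟨B, B', hBA, hBc, hBm, hBA', hBc', hBm', fun h => hbB' (h ▸ hb), hcB⟩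

theorem exists_frame (hS : Setup p k G) {A D B B' : Subgroup G} {z : G} (W : World p k A z D)
    (hA : IsElementaryAbelian p A) (hAc : Nat.card A = p ^ k) (hzo : orderOf z = 2)
    (hzA : ∀ a ∈ A, a * z = z * a) (hBA : B ≤ A) (hBc : Nat.card B = p ^ (k - 1)) (hBm : Member A D B)
    (hBA' : B' ≤ A) (hBc' : Nat.card B' = p ^ (k - 1)) (hBm' : Member A D B') (hne : B ≠ B') :
    ∃ s t s' t', Frame p k (B ⊓ B') z D s t s' t' ∧ (∀ b ∈ B, Commute b s ∧ Commute b t) ∧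
      (∀ b ∈ B', Commute b s' ∧ Commute b t') ∧ (¬ ∀ a ∈ A, a * s = s * a) ∧ ¬ ∀ a ∈ A, a * s' = s' * a := by
  have hk := hS.three
  have hzne : z ≠ 1 := fun h => by rw [h, orderOf_one] at hzo; norm_num at hzo
  have hpick : ∀ C ≤ A, Nat.card C = p ^ (k - 1) → ∃ a ∈ A, a ∉ C := fun C _ hCc => by
    by_contra hcon
    push Not at hcon
    have h1 := card_le_of_le (show A ≤ C from hcon)
    rw [hAc, hCc] at h1
    exact absurd h1 (not_le.2 (Nat.pow_lt_pow_right hp.out.one_lt (by omega)))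
  obtain ⟨a, ha, haB⟩ := hpick B hBA hBc
  obtain ⟨a', ha', haB'⟩ := hpick B' hBA' hBc'
  obtain ⟨s, hsD, hsB, hss, hst, hs_other⟩ := W.pair B hBA hBc hBm a ha haB
  obtain ⟨s', hsD', hsB', hss', hst', -⟩ := W.pair B' hBA' hBc' hBm' a' ha' haB'
  have hconj : ∀ C ≤ A, ∀ c ∈ A, ∀ x : G, (∀ b ∈ C, b * x = x * b) → ∀ b ∈ C,
      b * (c * x * c⁻¹) = c * x * c⁻¹ * b := fun C hCA c hc x hx b hb =>
    have h1 : Commute b c := PGroup.elemAb_comm hA (hCA hb) hc
    ((h1.mul_right (hx b hb)).mul_right h1.inv_right).eq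
  have hmem : ∀ x ∈ D, (∀ b ∈ B ⊓ B', b * x = x * b) → x ∈ D ⊓ centralizer ((B ⊓ B' : Subgroup G) : Set G) :=
    fun x hx h => ⟨hx, mem_centralizer_iff.2 h⟩
  have htD : a * s * a⁻¹ ∈ D := W.conj a (hzA a ha) s hsD
  have htD' : a' * s' * a'⁻¹ ∈ D := W.conj a' (hzA a' ha') s' hsD'
  have hsq : ∀ c ∈ A, ∀ x : G, x * x = z → (c * x * c⁻¹) * (c * x * c⁻¹) = z := fun c hc x hx => by
    rw [show c * x * c⁻¹ * (c * x * c⁻¹) = c * (x * x) * c⁻¹ by group, hx, hzA c hc, mul_inv_cancel_right]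
  have hmove : ∀ c ∈ A, ∀ x : G, x * (c * x * c⁻¹) = z * ((c * x * c⁻¹) * x) → ¬ ∀ b ∈ A, b * x = x * b :=
    fun c hc x hx h => hzne <| by
      rw [h c hc, mul_inv_cancel_right] at hx
      exact mul_eq_right.1 hx.symm
  obtain ⟨h1, h2⟩ := hs_other B' hBA' hBc' (Ne.symm hne) s' hsD' hsB'
  obtain ⟨h3, h4⟩ := hs_other B' hBA' hBc' (Ne.symm hne) _ htD' (hconj B' hBA' a' ha' s' hsB')
  exact ⟨s, a * s * a⁻¹, s', a' * s' * a'⁻¹,
    { two := W.two
      conj := W.conj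
      z_comm := W.z_comm
      elem := PGroup.elemAb_mono hA (inf_le_left.trans hBA)
      card := hyper_inf (by omega) hA hAc hBA hBc hBA' hBc' hne
      zo := hzo
      z_mem := hmem z W.z_mem fun b hb => hzA b (hBA hb.1)
      s_mem := hmem s hsD fun b hb => hsB b hb.1
      t_mem := hmem _ htD fun b hb => hconj B hBA a ha s hsB b hb.1
      s'_mem := hmem s' hsD' fun b hb => hsB' b hb.2
      t'_mem := hmem _ htD' fun b hb => hconj B' hBA' a' ha' s' hsB' b hb.2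
      ss := hss
      tt := hsq a ha s hss
      ss' := hss'
      tt' := hsq a' ha' s' hss'
      st := hst
      st' := hst'
      c_ss := h1
      c_st := h3
      c_ts := h2
      c_tt := h4 },
    fun b hb => ⟨hsB b hb, hconj B hBA a ha s hsB b hb⟩,
    fun b hb => ⟨hsB' b hb, hconj B' hBA' a' ha' s' hsB' b hb⟩, hmove a ha s hst, hmove a' ha' s' hst'⟩

namespace Frame

variable {K D Dp : Subgroup G} {z s t s' t' : G}

theorem exists_detect' (hS : Setup p k G) (F : Frame p k K z D s t s' t') : ∃ Dp, Detect p K Dp := by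
  refine exists_detectOf hS (PGroup.elemAb_isPGroup F.elem) fun h => ?_
  have := F.card
  rw [h, Subgroup.card_bot] at this
  exact absurd this.symm (Nat.one_lt_pow (by have := hS.three; omega) hp.out.one_lt).ne'

variable (hS : Setup p k G) (hd : Detect p K Dp)

include hS hd

theorem cross (F : Frame p k K z D s t s' t') {i f m : G} (hi : i ∈ centralizer (K : Set G)) (hii : i * i = 1)
    (hf : f ∈ Dp) (hm : m ∈ Dp) (hfi : i * f * i = f) (hmi : i * m * i = m⁻¹) : Commute m f :=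
  commute_of_fixed_inverted hS.odd (PGroup.elemAb_isPGroup F.elem) hii hi (hd.le hm) hfi hmi
    (F.comm_mem hS hd hm hf)

/-- A detecting subgroup of exponent `p` is abelian. -/
theorem dp_comm (F : Frame p k K z D s t s' t') : ∀ u ∈ Dp, ∀ v ∈ Dp, u * v = v * u := by
  have hk := hS.three
  obtain ⟨A', hA', hA'c, hA'e, hKA', hA'le⟩ := F.exists_next hS hd
  obtain ⟨D', W'⟩ := exists_world hS hA' hA'c F.e_order hA'e
  have hKc : ∀ c ∈ K, ∀ d ∈ Dp, c * d = d * c := fun c hc d hd' => comm_of_mem_centralizer hc (hd.le hd')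
  have key : ∀ m₁ ∈ Dp, ∀ m₂ ∈ Dp, s * s' * m₁ * (s * s') = m₁⁻¹ → s * s' * m₂ * (s * s') = m₂⁻¹ →
      Commute m₁ m₂ := by
    intro m₁ hm₁ m₂ hm₂ he₁ he₂
    rw [← commutatorElement_eq_one_iff_commute]
    by_contra hc1
    set c := ⁅m₁, m₂⁆ with hcdef
    have hcK : c ∈ K := F.comm_mem hS hd hm₁ hm₂
    obtain ⟨B, B', hBA, hBc, hBm, hBA', hBc', hBm', hne, hcB⟩ :=
      exists_two_members hS W' hA' hA'c hA'e (hKA' hcK) hc1
    obtain ⟨r, u, r', u', F', -⟩ :=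
      exists_frame hS W' hA' hA'c F.e_order hA'e hBA hBc hBm hBA' hBc' hBm' hne
    obtain ⟨Dp', hd'⟩ := F'.exists_detect' hS
    have hA'X : ∀ m ∈ Dp, s * s' * m * (s * s') = m⁻¹ → ∀ a ∈ A', Commute a m := by
      intro m hm hme a ha
      obtain ⟨c', hc', d, hd', rfl⟩ := mem_sup_comm hKc (hA'le ha)
      refine (show Commute c' m from hKc c' hc' m hm).mul_left (F.cross hS hd F.e_mem.2 F.ee hd' hm ?_ hme).symm
      refine conj_eq_of_commute F.ee ?_
      have h1 : Commute (s * s') (c' * d) := (hA'e _ ha).symm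
      have h2 := (comm_of_mem_centralizer hc' F.e_mem.2).symm.inv_right.mul_right h1
      rwa [inv_mul_cancel_left] at h2
    have hinN : ∀ m ∈ Dp, s * s' * m * (s * s') = m⁻¹ → m ∈ nilMod (B ⊓ B') Dp' := fun m hm hme =>
      F'.inverted_z_mem hS hd' (mem_centralizer_iff.2 fun b hb => (hA'X m hm hme b (hBA hb.1)).eq) (j := 1)
        (by rw [pow_one]; exact hd.exp m hm) hme
    have hcN : c ∈ nilMod (B ⊓ B') Dp' := mul_mem (mul_mem (mul_mem (hinN m₁ hm₁ he₁) (hinN m₂ hm₂ he₂))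
      (inv_mem (hinN m₁ hm₁ he₁))) (inv_mem (hinN m₂ hm₂ he₂))
    obtain ⟨d, hdD, hdB, hdmv⟩ := hBm
    refine hdmv (commute_sup (hyper_sup (by omega) hA' hA'c hBA hBc (hKA' hcK) hcB) hdB ?_)
    refine (commutatorElement_eq_one_iff_mul_comm).1
      (eq_one_of_mem_two hS.odd (F'.nil_pgroup hS hd') W'.two (c := ⁅c, d⁆) ?_ ?_)
    · rw [commutatorElement_def, mul_assoc, mul_assoc, ← mul_assoc d]
      exact mul_mem hcN (F'.conj_mem hd' (mem_centralizer_iff.2 fun b hb => hdB b hb.1) (inv_mem hcN))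
    · exact mul_mem (W'.conj c (hA'e c (hKA' hcK)) d hdD) (inv_mem hdD)
  have hn : ∀ x ∈ Dp, s * s' * x * (s * s') ∈ Dp := fun x hx =>
    hd.conj_invol (centralizer_le_normalizer _ F.e_mem.2) F.ee hx
  have htr : ∀ f ∈ Dp, s * s' * f * (s * s') = f →
      ∃ c ∈ K, ∃ m ∈ Dp, s * s' * m * (s * s') = m⁻¹ ∧ t * f * t⁻¹ = c * m := by
    intro f hf hfe
    have hg : t * f * t⁻¹ ∈ Dp := hd.conj' F.t_mem.2 hf
    obtain ⟨f₁, hf₁, m, hm, hfm, hfe₁, hme, -⟩ := exists_fixed_inverted hS.odd hd.pgroup F.ee hn hg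
    refine ⟨f₁, ?_, m, hm, hme, hfm⟩
    have h1 : s * s' * (t * f * t⁻¹) * (s * s') = z * (t * f * t⁻¹) * z := by
      calc s * s' * (t * f * t⁻¹) * (s * s') = (s * s' * t) * f * (s * s' * t)⁻¹ := by
            rw [mul_inv_rev (s * s'), inv_eq_of_mul_eq_one_right F.ee]; group
        _ = z * t * (s * s' * f * (s * s')) * t⁻¹ * z := by
            rw [F.e_t, mul_inv_rev, mul_inv_rev, inv_eq_of_mul_eq_one_right F.ee,
              inv_eq_of_mul_eq_one_right F.zz]; group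
        _ = _ := by rw [hfe]; group
    have h2 : s * s' * (f₁ * m) * (s * s') = f₁ * m⁻¹ := by
      have hee := F.ee
      generalize s * s' = e at hfe₁ hme hee ⊢
      calc e * (f₁ * m) * e = e * f₁ * (e * e) * m * e := by rw [hee]; group
        _ = (e * f₁ * e) * (e * m * e) := by group
        _ = _ := by rw [hfe₁, hme]
    have h3 := F.zinv hS hd hg
    rw [← h1, hfm, h2, (show Commute m⁻¹ f₁ from
      (F.cross hS hd F.e_mem.2 F.ee hf₁ hm hfe₁ hme).inv_left).mul_mul_mul_comm,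
      inv_mul_cancel, mul_one] at h3
    exact mem_of_coprime_pows ((Nat.coprime_primes Nat.prime_two hp.out).2 (Ne.symm hS.odd))
      (by rwa [pow_two]) (by rw [hd.exp f₁ hf₁]; exact one_mem _)
  intro u hu v hv
  obtain ⟨f, hf, m, hm, rfl, hfe, hme, -⟩ := exists_fixed_inverted hS.odd hd.pgroup F.ee hn hu
  obtain ⟨g, hg, n, hn', rfl, hge, hne, -⟩ := exists_fixed_inverted hS.odd hd.pgroup F.ee hn hv
  have hfg : Commute f g := by
    obtain ⟨c, hc, m', hm', hme', he₁⟩ := htr f hf hfe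
    obtain ⟨c', hc', n', hn'', hne', he₂⟩ := htr g hg hge
    rw [← Commute.conj_iff t, he₁, he₂]
    have h1 : Commute c c' := PGroup.elemAb_comm F.elem hc hc'
    exact (h1.mul_right (hKc c hc n' hn'')).mul_left
      ((show Commute c' m' from hKc c' hc' m' hm').symm.mul_right (key m' hm' n' hn'' hme' hne'))
  exact ((hfg.mul_right (F.cross hS hd F.e_mem.2 F.ee hf hn' hfe hne).symm).mul_left
    ((F.cross hS hd F.e_mem.2 F.ee hg hm hge hme).mul_right (key m hm n hn' hme hne))).eq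

/-- The final configuration. -/
theorem false_of_frame (F : Frame p k K z D s t s' t') : False := by
  have hk := hS.three
  have h2p : Nat.Coprime 2 p := (Nat.coprime_primes Nat.prime_two hp.out).2 (Ne.symm hS.odd)
  obtain ⟨A', hA', hA'c, hA'e, hKA', hA'le⟩ := F.exists_next hS hd
  obtain ⟨D', W'⟩ := exists_world hS hA' hA'c F.e_order hA'e
  set e := s * s' with hedef
  have hee : e * e = 1 := F.ee
  have hKc : ∀ c ∈ K, ∀ d ∈ Dp, c * d = d * c := fun c hc d hd' => comm_of_mem_centralizer hc (hd.le hd')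
  have hKD : IsElementaryAbelian p (K ⊔ Dp) :=
    PGroup.elemAb_sup F.elem (PGroup.isElementaryAbelian_mk (F.dp_comm hS hd) hd.exp) hKc
  have hKX : K ≤ centralizer (K : Set G) := fun c hc =>
    mem_centralizer_iff.2 fun c' hc' => PGroup.elemAb_comm F.elem hc' hc
  have hKDX : K ⊔ Dp ≤ centralizer (K : Set G) := sup_le hKX hd.le
  have hmax : ∀ x ∈ K ⊔ Dp, x * e = e * x → x ∈ A' := by
    intro x hx hxe
    have hle : A' ≤ (K ⊔ Dp) ⊓ centralizer {e} := fun a ha =>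
      ⟨hA'le ha, mem_centralizer_singleton_iff.2 (hA'e a ha)⟩
    have heq := Subgroup.eq_of_le_of_card_ge hle (by
      rw [hA'c]
      exact hS.bound _ (PGroup.elemAb_mono hKD inf_le_left) e F.e_order
        fun a ha => mem_centralizer_singleton_iff.1 ha.2)
    rw [heq]
    exact ⟨hx, mem_centralizer_singleton_iff.2 hxe⟩
  have hA'conj : ∀ r ∈ centralizer (K : Set G), Commute r e → ∀ a ∈ A', r * a * r⁻¹ ∈ A' := by
    intro r hr hre a ha
    refine hmax _ ?_ ((hre.mul_left (show Commute a e from hA'e a ha)).mul_left hre.inv_left).eq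
    obtain ⟨c, hc, d, hd', rfl⟩ := mem_sup_comm hKc (hA'le ha)
    rw [show r * (c * d) * r⁻¹ = r * c * r⁻¹ * (r * d * r⁻¹) by group,
      ← (comm_of_mem_centralizer hc hr).eq, mul_inv_cancel_right]
    exact mul_mem_sup hc (hd.conj' hr hd')
  have hnoK : ∀ B ≤ A', Member A' D' B → ¬ K ≤ B := by
    intro B _ ⟨d, hdD, hdB, hdmv⟩ hKB
    have hdX : d ∈ centralizer (K : Set G) := mem_centralizer_iff.2 fun c hc => hdB c (hKB hc)
    refine hdmv fun a ha => commutatorElement_eq_one_iff_mul_comm.1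
      (eq_one_of_mem_two hS.odd (PGroup.elemAb_isPGroup hA') W'.two (c := ⁅a, d⁆) ?_ ?_)
    · rw [commutatorElement_def, mul_assoc, mul_assoc, ← mul_assoc d]
      exact mul_mem ha (hA'conj d hdX (W'.z_comm d hdD) _ (inv_mem ha))
    · exact mul_mem (W'.conj a (hA'e a ha) d hdD) (inv_mem hdD)
  have hze : Commute z e := (F.zc F.e_mem).symm
  have hzi : z⁻¹ = z := inv_eq_of_mul_eq_one_right F.zz
  have hzA' : ∀ a ∈ A', z * a * z ∈ A' := fun a ha => by
    have := hA'conj z F.z_mem.2 hze a ha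
    rwa [hzi] at this
  -- a member not invariant under `z`
  obtain ⟨B, hBA, hBc, hBm, hBz⟩ : ∃ B ≤ A', Nat.card B = p ^ (k - 1) ∧ Member A' D' B ∧
      ∃ b ∈ B, z * b * z ∉ B := by
    by_contra hcon
    push Not at hcon
    obtain ⟨w, hw, hw1, hwz⟩ : ∃ w ∈ A', w ≠ 1 ∧ z * w * z = w⁻¹ := by
      obtain ⟨a, ha, haK⟩ : ∃ a ∈ A', a ∉ K := by
        by_contra hsub
        push Not at hsub
        have h1 := card_le_of_le (show A' ≤ K from hsub)
        rw [F.card, hA'c] at h1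
        exact absurd h1 (not_le.2 (Nat.pow_lt_pow_right hp.out.one_lt (by omega)))
      obtain ⟨c, hc, x, hx, rfl⟩ := mem_sup_comm hKc (hA'le ha)
      have hxA : x ∈ A' := by
        have := mul_mem (inv_mem (hKA' hc)) ha
        rwa [inv_mul_cancel_left] at this
      obtain ⟨f, hf, m, hm, rfl, hfz, hmz, -⟩ := exists_fixed_inverted hS.odd hd.pgroup F.zz
        (fun x hx => hd.conj_invol (centralizer_le_normalizer _ F.z_mem.2) F.zz hx) hx
      have hfK : f ∈ K := F.fixed_le hS hd hf (commute_of_conj_eq F.zz hfz).symm.eq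
      refine ⟨m, ?_, fun h => haK (by rw [h, mul_one]; exact mul_mem hc hfK), hmz⟩
      have := mul_mem (inv_mem (hKA' hfK)) hxA
      rwa [inv_mul_cancel_left] at this
    obtain ⟨B, hBA, hBc, hBm, hwB⟩ := exists_member_notMem hS W' hA' hA'c hA'e hw hw1
    obtain ⟨g, hgK, hgB⟩ : ∃ g ∈ K, g ∉ B := SetLike.not_le_iff_exists.1 (hnoK B hBA hBm)
    have hcg : ∀ b ∈ B, ∀ v ∈ zpowers g, b * v = v * b := fun b hb v hv =>
      PGroup.elemAb_comm hA' (hBA hb) (zpowers_le.2 (hKA' hgK) hv)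
    obtain ⟨b, hb, v, hv, rfl⟩ :=
      mem_sup_comm hcg ((hyper_sup (by omega) hA' hA'c hBA hBc (hKA' hgK) hgB).symm ▸ hw)
    have hvK : v ∈ K := zpowers_le.2 hgK hv
    refine hwB (mul_mem hb ?_)
    by_contra hvB
    refine hyper_sq_notMem hS.odd hA' (hKA' hvK) hvB ?_
    have hvz : Commute v z := comm_of_mem_centralizer hvK F.z_mem.2
    have h1 : z * (b * v) * z = z * b * z * v := by
      rw [← mul_assoc z b v, mul_assoc (z * b) v z, hvz.eq, ← mul_assoc]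
    rw [h1, mul_inv_rev] at hwz
    have h2 : v * v = (z * b * z)⁻¹ * b⁻¹ := by
      have h3 : v = (z * b * z)⁻¹ * (v⁻¹ * b⁻¹) := eq_inv_mul_iff_mul_eq.2 hwz
      have h4 : Commute v b⁻¹ := (hcg b hb v hv).symm |> fun h => (show Commute v b from h).inv_right
      calc v * v = (z * b * z)⁻¹ * (v⁻¹ * b⁻¹) * v := by rw [← h3]
        _ = _ := by rw [mul_assoc _ (v⁻¹ * b⁻¹), mul_assoc v⁻¹, ← h4.eq, inv_mul_cancel_left]
    rw [h2]
    exact mul_mem (inv_mem (hcon B hBA hBc hBm b hb)) (inv_mem hb)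
  set B₂ := B.map (MulAut.conj z).toMonoidHom with hB₂
  have hmem₂ : ∀ b ∈ B, z * b * z ∈ B₂ := fun b hb => ⟨b, hb, by
    show z * b * z⁻¹ = _
    rw [hzi]⟩
  have hB₂b : ∀ x ∈ B₂, ∃ b ∈ B, x = z * b * z := by
    rintro _ ⟨b, hb, rfl⟩
    exact ⟨b, hb, by show z * b * z⁻¹ = _; rw [hzi]⟩
  have hB₂A : B₂ ≤ A' := fun x hx => by
    obtain ⟨b, hb, rfl⟩ := hB₂b x hx
    exact hzA' b (hBA hb)
  have hB₂c : Nat.card B₂ = p ^ (k - 1) := by
    rw [hB₂, Subgroup.card_map_of_injective (MulAut.conj z).injective, hBc]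
  have hne₂ : B ≠ B₂ := fun h => by
    obtain ⟨b, hb, hbz⟩ := hBz
    exact hbz (h ▸ hmem₂ b hb)
  have hB₂m : Member A' D' B₂ := by
    obtain ⟨d, hdD, hdB, hdmv⟩ := hBm
    have hcj : ∀ a b : G, Commute a b → Commute (z * a * z) (z * b * z) := fun a b h => by
      have := (Commute.conj_iff z).2 h
      rwa [hzi] at this
    refine ⟨z * d * z, ?_, fun x hx => ?_, fun h => hdmv fun a ha => ?_⟩
    · have := W'.conj z hze d hdD
      rwa [hzi] at this
    · obtain ⟨b, hb, rfl⟩ := hB₂b x hx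
      exact hcj b d (hdB b hb)
    · have h1 := hcj _ _ (h _ (hzA' a ha))
      have hzzz : ∀ x : G, z * (z * x * z) * z = x := fun x => by
        rw [show z * (z * x * z) * z = (z * z) * x * (z * z) by group, F.zz, one_mul, mul_one]
      rw [hzzz, hzzz] at h1
      exact h1
  obtain ⟨g, hgK, hgB⟩ : ∃ g ∈ K, g ∉ B := SetLike.not_le_iff_exists.1 (hnoK B hBA hBm)
  obtain ⟨r₁, r₂, r₁', r₂', F', hrB, hrB₂, hr₁mv, hr₁mv'⟩ :=
    exists_frame hS W' hA' hA'c F.e_order hA'e hBA hBc hBm hB₂A hB₂c hB₂m hne₂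
  obtain ⟨Dp', hd'⟩ := F'.exists_detect' hS
  set K' := B ⊓ B₂ with hK'
  have hab' := F'.dp_comm hS hd'
  set U := invertedIn Dp' hab' e hee with hU
  have hUd : ∀ u ∈ U, u ∈ Dp' := fun u hu => hu.1
  have hUinv : ∀ u ∈ U, e * u * e = u⁻¹ := fun u hu => hu.2
  have hUab : IsElementaryAbelian p U :=
    PGroup.isElementaryAbelian_mk (fun a ha b hb => hab' a ha.1 b hb.1) fun a ha => hd'.exp a ha.1
  have hUK : ∀ u ∈ U, u ∈ K' → u = 1 := fun u hu huK => by
    have h1 := hu.2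
    rw [← (comm_of_mem_centralizer huK F'.z_mem.2).eq, mul_assoc, hee, mul_one] at h1
    exact eq_one_of_sq hS.odd (PGroup.elemAb_isPGroup hUab) hu (mul_eq_one_iff_eq_inv.2 h1)
  have hUn : ∀ r ∈ centralizer (K' : Set G), Commute r e → ∀ u ∈ U, r * u * r⁻¹ ∈ U := by
    intro r hr hre u hu
    refine ⟨hd'.conj' hr hu.1, ?_⟩
    calc e * (r * u * r⁻¹) * e = e * r * u * (r⁻¹ * e) := by group
      _ = r * (e * u * e) * r⁻¹ := by rw [hre.inv_left.eq, ← hre.eq]; group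
      _ = _ := by rw [hu.2]; group
  have hA'X : ∀ a ∈ A', a ∈ centralizer (K' : Set G) := fun a ha =>
    mem_centralizer_iff.2 fun b hb => PGroup.elemAb_comm hA' (hBA hb.1) ha
  have hAU : ∀ a ∈ A', ∀ u ∈ U, a * u * a⁻¹ ∈ U := fun a ha => hUn a (hA'X a ha) (hA'e a ha)
  have hrU : ∀ r ∈ D' ⊓ centralizer (K' : Set G), ∀ u ∈ U, r * u * r⁻¹ ∈ U := fun r hr =>
    hUn r hr.2 (W'.z_comm r hr.1)
  -- the upper bound `p ^ 4`
  set e' := r₁ * r₁' with he'
  have hee' : e' * e' = 1 := F'.ee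
  have hflip : ∀ u ∈ U, e' * (r₂ * u * r₂⁻¹) * e' = (r₂ * (e' * u * e') * r₂⁻¹)⁻¹ := by
    intro u hu
    have hv : r₂ * (e' * u * e') * r₂⁻¹ ∈ U := hrU r₂ F'.t_mem _ (by
      have := hrU e' F'.e_mem u hu
      rwa [inv_eq_of_mul_eq_one_right hee'] at this)
    rw [← hUinv _ hv]
    calc e' * (r₂ * u * r₂⁻¹) * e' = (e' * r₂) * u * (e' * r₂)⁻¹ := by
          rw [mul_inv_rev e', inv_eq_of_mul_eq_one_right hee']; group
      _ = _ := by
          rw [he', F'.e_t, ← he', mul_inv_rev, mul_inv_rev, inv_eq_of_mul_eq_one_right hee',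
            inv_eq_of_mul_eq_one_right hee]
          group
  have he'U : ∀ u ∈ U, e' * u * e' ∈ U := fun u hu => by
    have := hrU e' F'.e_mem u hu
    rwa [inv_eq_of_mul_eq_one_right hee'] at this
  have hUc : Nat.card U ≤ p ^ 4 := by
    set Up := U ⊓ centralizer {e'} with hUp
    set Um := invertedIn U (fun a ha b hb => hab' a ha.1 b hb.1) e' hee' with hUm
    have hp1 : Nat.card Up ≤ p ^ 2 := by
      have hc : ∀ a ∈ K', ∀ b ∈ Up, a * b = b * a := fun a ha b hb =>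
        comm_of_mem_centralizer ha (hd'.le hb.1.1)
      have hd0 : K' ⊓ Up = ⊥ := (eq_bot_iff_forall _).2 fun u hu => hUK u hu.2.1 hu.1
      have h := hS.bound (K' ⊔ Up) (PGroup.elemAb_sup F'.elem (PGroup.elemAb_mono hUab inf_le_left) hc)
        e' F'.e_order fun a ha => by
          obtain ⟨x, hx, y, hy, rfl⟩ := mem_sup_comm hc ha
          exact ((comm_of_mem_centralizer hx F'.e_mem.2).mul_left
            (show Commute y e' from mem_centralizer_singleton_iff.1 hy.2)).eq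
      rw [card_sup_comm hc hd0, F'.card, show p ^ k = p ^ (k - 2) * p ^ 2 by
        rw [← pow_add, Nat.sub_add_cancel (by omega)]] at h
      exact Nat.le_of_mul_le_mul_left h (pow_pos hp.out.pos _)
    have hm1 : Nat.card Um ≤ Nat.card Up := by
      rw [← Subgroup.card_map_of_injective (K := Um)
        (show Function.Injective (MulAut.conj r₂).toMonoidHom from (MulAut.conj r₂).injective)]
      refine card_le_of_le ?_
      rintro _ ⟨u, hu, rfl⟩
      show r₂ * u * r₂⁻¹ ∈ Up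
      refine ⟨hrU r₂ F'.t_mem u hu.1, mem_centralizer_singleton_iff.2
        (commute_of_conj_eq hee' ?_).symm.eq⟩
      rw [hflip u hu.1, hu.2]
      group
    have hle : U ≤ Up ⊔ Um := fun u hu => by
      obtain ⟨f, hf, m, hm, rfl, hfe, hme, -⟩ :=
        exists_fixed_inverted hS.odd (PGroup.elemAb_isPGroup hUab) hee' he'U hu
      exact mul_mem_sup ⟨hf, mem_centralizer_singleton_iff.2 (commute_of_conj_eq hee' hfe).symm.eq⟩ ⟨hm, hme⟩
    have hd1 : Up ⊓ Um = ⊥ := (eq_bot_iff_forall _).2 fun u ⟨hu, hu'⟩ => by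
      have h1 := hu'.2
      rw [conj_eq_of_commute hee' (mem_centralizer_singleton_iff.1 hu.2).symm] at h1
      exact eq_one_of_sq hS.odd (PGroup.elemAb_isPGroup hUab) hu.1 (mul_eq_one_iff_eq_inv.2 h1)
    calc Nat.card U ≤ Nat.card ↥(Up ⊔ Um) := card_le_of_le hle
      _ = Nat.card Up * Nat.card Um :=
        card_sup_comm (fun a ha b hb => hab' a ha.1.1 b hb.1.1) hd1
      _ ≤ p ^ 2 * p ^ 2 := Nat.mul_le_mul hp1 (hm1.trans hp1)
      _ = p ^ 4 := by rw [← pow_add]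
  -- the two hyperplanes act quadratically
  have hside : ∀ C C' : Subgroup G, C ≤ A' → Nat.card C = p ^ (k - 1) → C' ≤ A' →
      Nat.card C' = p ^ (k - 1) → C ≠ C' → C ⊓ C' = K' → ∀ x ∈ D' ⊓ centralizer (K' : Set G),
      ∀ y ∈ D' ⊓ centralizer (K' : Set G), ∀ x' ∈ D' ⊓ centralizer (K' : Set G), x * y = e * (y * x) →
      (∀ b ∈ C, Commute b x ∧ Commute b y) → (∀ b ∈ C', Commute b x') → (¬ ∀ a ∈ A', a * x' = x' * a) →
      Nat.card ↥(U ⊓ centralizer (C : Set G)) = p ^ 2 ∧ Nat.card U = p ^ 4 ∧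
        ∀ c ∈ C, ∀ u ∈ U, c * u * c⁻¹ * u⁻¹ ∈ U ⊓ centralizer (C : Set G) := by
    intro C C' hCA hCc hCA' hCc' hne hCK x hx y hy x' hx' hrel hCx hCx' hmv
    obtain ⟨b, hb, hbC'⟩ : ∃ b ∈ C, b ∉ C' := by
      by_contra hcon
      push Not at hcon
      exact hne (Subgroup.eq_of_le_of_card_ge hcon (by rw [hCc, hCc']))
    have hbA := hCA hb
    have hK'C : K' ≤ C := hCK ▸ inf_le_left
    have hKU : ∀ c ∈ K', ∀ u ∈ U, Commute c u := fun c hc u hu => comm_of_mem_centralizer hc (hd'.le hu.1)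
    have hbmv : ¬ ∀ u ∈ U, b * u = u * b := by
      intro h
      have hbN : b ∈ nilMod K' Dp' := ⟨hA'X b hbA, fun v hv => by
        obtain ⟨f, hf, m, hm, rfl, hfe, hme, -⟩ := exists_fixed_inverted hS.odd hd'.pgroup hee
          (fun x hx => hd'.conj_invol (centralizer_le_normalizer _ F'.z_mem.2) hee hx) hv
        have hfK : f ∈ K' := F'.fixed_le hS hd' hf (commute_of_conj_eq hee hfe).symm.eq
        have h1 : Commute b (f * m) := (comm_of_mem_centralizer hfK (hA'X b hbA)).symm.mul_right (h m ⟨hm, hme⟩)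
        rw [h1.eq, mul_inv_cancel_right, mul_inv_cancel]
        exact one_mem _⟩
      refine hmv (commute_sup (hyper_sup (by omega) hA' hA'c hCA' hCc' hbA hbC') (fun c hc => (hCx' c hc).eq) ?_)
      refine commutatorElement_eq_one_iff_mul_comm.1
        (eq_one_of_mem_two hS.odd (F'.nil_pgroup hS hd') W'.two (c := ⁅b, x'⁆) ?_ ?_)
      · rw [commutatorElement_def, mul_assoc, mul_assoc, ← mul_assoc x']
        exact mul_mem hbN (F'.conj_mem hd' hx'.2 (inv_mem hbN))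
      · exact mul_mem (W'.conj b (hA'e b hbA) x' hx'.1) (inv_mem hx'.1)
    have hbK : b ∉ K' := fun h => hbC' ((hCK.symm ▸ h : b ∈ C ⊓ C').2)
    have hgen : K' ⊔ zpowers b = C := Subgroup.eq_of_le_of_card_ge (sup_le hK'C (zpowers_le.2 hb)) (le_of_eq <| by
      rw [card_sup_zpowers hp.out (fun c hc => PGroup.elemAb_comm hA' (hCA (hK'C hc)) hbA) (hA'.2 b hbA) hbK,
        F'.card, hCc, ← pow_succ]
      congr 1
      omega)
    have hFeq : U ⊓ centralizer (C : Set G) = U ⊓ centralizer {b} := by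
      ext u
      refine ⟨fun h => ⟨h.1, mem_centralizer_singleton_iff.2 (mem_centralizer_iff.1 h.2 b hb).symm⟩, fun h => ?_⟩
      exact ⟨h.1, mem_centralizer_iff.2 (commute_sup hgen (fun c hc => (hKU c hc u h.1).eq)
        (mem_centralizer_singleton_iff.1 h.2).symm)⟩
    have hq : ∀ c ∈ C, (¬ ∀ u ∈ U, c * u = u * c) → Nat.card ↥(U ⊓ centralizer {c}) = p ^ 2 ∧
        Nat.card U = p ^ 4 ∧ ∀ u ∈ U, c * u * c⁻¹ * u⁻¹ ∈ U ⊓ centralizer {c} := fun c hc hcmv =>
      quad hS.odd hUab hUc hee hUinv hrel (hrU x hx) (hrU y hy) (hCx c hc).1 (hCx c hc).2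
        (hA'.2 c (hCA hc)) (hAU c (hCA hc)) hcmv
    obtain ⟨hFc, hU4, -⟩ := hq b hb hbmv
    refine ⟨by rw [hFeq]; exact hFc, hU4, fun c hc u hu => ?_⟩
    by_cases hcmv : ∀ u ∈ U, c * u = u * c
    · rw [hcmv u hu, mul_inv_cancel_right, mul_inv_cancel]
      exact one_mem _
    obtain ⟨hc2, -, him⟩ := hq c hc hcmv
    have hle : U ⊓ centralizer (C : Set G) ≤ U ⊓ centralizer {c} := fun u hu =>
      ⟨hu.1, mem_centralizer_singleton_iff.2 (mem_centralizer_iff.1 hu.2 c hc).symm⟩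
    rw [Subgroup.eq_of_le_of_card_ge hle (by rw [hc2, hFeq, hFc])]
    exact him u hu
  obtain ⟨hF1c, hU4, him1⟩ := hside B B₂ hBA hBc hB₂A hB₂c hne₂ rfl r₁ F'.s_mem r₂ F'.t_mem r₁' F'.s'_mem
    F'.st hrB (fun b hb => (hrB₂ b hb).1) hr₁mv'
  obtain ⟨hF2c, -, him2⟩ := hside B₂ B hB₂A hB₂c hBA hBc (Ne.symm hne₂) (inf_comm B₂ B) r₁' F'.s'_mem
    r₂' F'.t'_mem r₁ F'.s_mem F'.st' hrB₂ (fun b hb => (hrB b hb).1) hr₁mv
  set F₁ := U ⊓ centralizer (B : Set G) with hF₁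
  set F₂ := U ⊓ centralizer (B₂ : Set G) with hF₂
  have hinv₁ : ∀ r ∈ D' ⊓ centralizer (K' : Set G), (∀ b ∈ B, Commute b r) → ∀ u ∈ F₁, r * u * r⁻¹ ∈ F₁ :=
    fun r hr hrc u hu => ⟨hrU r hr u hu.1, mem_centralizer_iff.2 fun b hb =>
      (((hrc b hb).mul_right (mem_centralizer_iff.1 hu.2 b hb)).mul_right (hrc b hb).inv_right).eq⟩
  have hinv₂ : ∀ r ∈ D' ⊓ centralizer (K' : Set G), (∀ b ∈ B₂, Commute b r) → ∀ u ∈ F₂, r * u * r⁻¹ ∈ F₂ :=
    fun r hr hrc u hu => ⟨hrU r hr u hu.1, mem_centralizer_iff.2 fun b hb =>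
      (((hrc b hb).mul_right (mem_centralizer_iff.1 hu.2 b hb)).mul_right (hrc b hb).inv_right).eq⟩
  set L := F₁ ⊓ F₂ with hL
  have hLU : L ≤ U := inf_le_left.trans inf_le_left
  have hLc : Nat.card L ≤ p := by
    obtain ⟨j, hj⟩ := exists_card_pow (PGroup.elemAb_mono hUab hLU)
    rcases lt_or_ge j 2 with hlt | hge
    · calc Nat.card L = p ^ j := hj
        _ ≤ p ^ 1 := Nat.pow_le_pow_right hp.out.pos (by omega)
        _ = p := pow_one p
    exfalso
    have hge' : p ^ 2 ≤ Nat.card L := hj ▸ Nat.pow_le_pow_right hp.out.pos hge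
    have e1 : L = F₁ := Subgroup.eq_of_le_of_card_ge inf_le_left (hF1c ▸ hge')
    have e2 : L = F₂ := Subgroup.eq_of_le_of_card_ge inf_le_right (hF2c ▸ hge')
    have hLr : ∀ r, r = r₁ ∨ r = r₂ ∨ r = r₁' ∨ r = r₂' → ∀ u ∈ L, r * u * r⁻¹ ∈ L := by
      rintro r (rfl | rfl | rfl | rfl) u hu
      · exact e1 ▸ hinv₁ _ F'.s_mem (fun b hb => (hrB b hb).1) u (e1 ▸ hu)
      · exact e1 ▸ hinv₁ _ F'.t_mem (fun b hb => (hrB b hb).2) u (e1 ▸ hu)
      · exact e2 ▸ hinv₂ _ F'.s'_mem (fun b hb => (hrB₂ b hb).1) u (e2 ▸ hu)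
      · exact e2 ▸ hinv₂ _ F'.t'_mem (fun b hb => (hrB₂ b hb).2) u (e2 ▸ hu)
    have hLe' : ∀ u ∈ L, e' * u * e' ∈ L := fun u hu => by
      have h1 := hLr r₁ (Or.inl rfl) _ (hLr r₁' (Or.inr (Or.inr (Or.inl rfl))) u hu)
      have h2 : r₁ * (r₁' * u * r₁'⁻¹) * r₁⁻¹ = e' * u * e' := by
        calc r₁ * (r₁' * u * r₁'⁻¹) * r₁⁻¹ = e' * u * e'⁻¹ := by rw [he']; group
          _ = _ := by rw [inv_eq_of_mul_eq_one_right hee']
      rwa [h2] at h1
    set Lp := L ⊓ centralizer {e'} with hLp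
    have hLpinv : ∀ r, Commute r e' → (∀ u ∈ L, r * u * r⁻¹ ∈ L) → ∀ u ∈ Lp, r * u * r⁻¹ ∈ Lp := fun r hre hr u hu =>
      ⟨hr u hu.1, mem_centralizer_singleton_iff.2
        ((hre.mul_left (show Commute u e' from mem_centralizer_singleton_iff.1 hu.2)).mul_left hre.inv_left).eq⟩
    have ht0 : ∀ u ∈ L, r₂ * r₂' * u * (r₂ * r₂')⁻¹ ∈ L := fun u hu => by
      rw [show r₂ * r₂' * u * (r₂ * r₂')⁻¹ = r₂ * (r₂' * u * r₂'⁻¹) * r₂⁻¹ by group]
      exact hLr r₂ (Or.inr (Or.inl rfl)) _ (hLr r₂' (Or.inr (Or.inr (Or.inr rfl))) u hu)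
    have hbot : ∀ r : G, ∀ x ∈ (⊥ : Subgroup G), r * x * r⁻¹ ∈ (⊥ : Subgroup G) := fun r x hx => by
      simp [mem_bot.1 hx]
    have hy : ∀ x ∈ L, r₂ * x * r₂⁻¹ ∈ L := hLr r₂ (Or.inr (Or.inl rfl))
    have hback : ∀ x : G, r₂ * x * r₂⁻¹ = 1 → x = 1 := fun x hx => by simpa using hx
    obtain ⟨x, hxL, hx1⟩ : ∃ x ∈ L, x ≠ 1 := by
      by_contra hcon
      push Not at hcon
      rw [(eq_bot_iff_forall L).2 hcon, Subgroup.card_bot] at hge'
      exact absurd hge' (not_le.2 (Nat.one_lt_pow (by omega) hp.out.one_lt))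
    rcases eq_or_ne Lp ⊥ with hbot' | hne'
    · have hin : ∀ u ∈ L, e' * u * e' = u⁻¹ := fun u hu => by
        have h1 : u * (e' * u * e') ∈ Lp := by
          refine ⟨mul_mem hu (hLe' u hu), mem_centralizer_singleton_iff.2 (commute_of_conj_eq hee' ?_).symm.eq⟩
          calc e' * (u * (e' * u * e')) * e' = e' * u * e' * u * (e' * e') := by group
            _ = _ := by rw [hee', mul_one]; exact PGroup.elemAb_comm hUab (hLU (hLe' u hu)) (hLU hu)
        rw [hbot', mem_bot] at h1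
        exact (inv_eq_of_mul_eq_one_right h1).symm
      have h2 := hflip x (hLU hxL)
      rw [hin x hxL, hin _ (hy x hxL), show (r₂ * x⁻¹ * r₂⁻¹)⁻¹ = r₂ * x * r₂⁻¹ by group] at h2
      exact hx1 (hback x (eq_one_of_sq hS.odd (PGroup.elemAb_isPGroup hUab) (hLU (hy x hxL))
        (mul_eq_one_iff_eq_inv.2 h2.symm)))
    · have h2 : p ^ 2 ≤ Nat.card Lp := by
        simpa using two_le_relIndex hS.odd hUab hee hUinv F'.t0_s (bot_le (a := Lp)) (inf_le_left.trans hLU)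
          (hbot _) (hbot _) (hLpinv _ F'.e_t0.symm ht0)
          (hLpinv _ F'.s_e (hLr r₁ (Or.inl rfl))) (Ne.symm hne')
      have heq : Lp = L := Subgroup.eq_of_le_of_card_ge inf_le_left (by
        rw [e1, hF1c]; exact h2)
      have hfix : ∀ u ∈ L, e' * u * e' = u := fun u hu =>
        conj_eq_of_commute hee' (mem_centralizer_singleton_iff.1 ((heq.symm ▸ hu : u ∈ Lp)).2).symm
      have h3 := hflip x (hLU hxL)
      rw [hfix x hxL, hfix _ (hy x hxL)] at h3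
      exact hx1 (hback x (eq_one_of_sq hS.odd (PGroup.elemAb_isPGroup hUab) (hLU (hy x hxL))
        (mul_eq_one_iff_eq_inv.2 h3)))
  -- `g` has a fixed point outside `L`
  have hA'sup : ∀ a ∈ A', ∃ b ∈ B, ∃ b' ∈ B₂, a = b * b' := by
    obtain ⟨b₂, hb₂, hb₂B⟩ : ∃ b ∈ B₂, b ∉ B := by
      by_contra hcon
      push Not at hcon
      exact hne₂ (Subgroup.eq_of_le_of_card_ge hcon (by rw [hBc, hB₂c])).symm
    intro a ha
    obtain ⟨b, hb, v, hv, rfl⟩ := mem_sup_comm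
      (fun b hb v hv => PGroup.elemAb_comm hA' (hBA hb) (zpowers_le.2 (hB₂A hb₂) hv))
      ((hyper_sup (by omega) hA' hA'c hBA hBc (hB₂A hb₂) hb₂B).symm ▸ ha)
    exact ⟨b, hb, v, zpowers_le.2 hb₂ hv, rfl⟩
  have hFstab : ∀ a ∈ A', ∀ C ≤ A', ∀ u ∈ U ⊓ centralizer (C : Set G), a * u * a⁻¹ ∈ U ⊓ centralizer (C : Set G) :=
    fun a ha C hCA u hu => ⟨hAU a ha u hu.1, mem_centralizer_iff.2 fun c hc =>
      have h1 : Commute c a := PGroup.elemAb_comm hA' (hCA hc) ha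
      ((h1.mul_right (mem_centralizer_iff.1 hu.2 c hc)).mul_right h1.inv_right).eq⟩
  have hTL : ∀ u, u ∈ F₁ ∨ u ∈ F₂ → g * u * g⁻¹ * u⁻¹ ∈ L := by
    intro u hu
    obtain ⟨b, hb, b', hb', hg⟩ := hA'sup g (hKA' hgK)
    have hbb : Commute b b' := PGroup.elemAb_comm hA' (hBA hb) (hB₂A hb')
    rcases hu with hu | hu
    · have h1 : b' * u * b'⁻¹ ∈ F₁ := hFstab b' (hB₂A hb') B hBA u hu
      have h2 : g * u * g⁻¹ * u⁻¹ = b' * u * b'⁻¹ * u⁻¹ := by
        calc g * u * g⁻¹ * u⁻¹ = b * (b' * u * b'⁻¹) * b⁻¹ * u⁻¹ := by rw [hg]; group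
          _ = _ := by rw [mem_centralizer_iff.1 h1.2 b hb, mul_inv_cancel_right]
      rw [h2]
      exact ⟨F₁.mul_mem h1 (F₁.inv_mem hu), him2 b' hb' u hu.1⟩
    · have h1 : b * u * b⁻¹ ∈ F₂ := hFstab b (hBA hb) B₂ hB₂A u hu
      have h2 : g * u * g⁻¹ * u⁻¹ = b * u * b⁻¹ * u⁻¹ := by
        calc g * u * g⁻¹ * u⁻¹ = b' * (b * u * b⁻¹) * b'⁻¹ * u⁻¹ := by rw [hg, hbb.eq]; group
          _ = _ := by rw [mem_centralizer_iff.1 h1.2 b' hb', mul_inv_cancel_right]
      rw [h2]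
      exact ⟨him1 b hb u hu.1, F₂.mul_mem h1 (F₂.inv_mem hu)⟩
  let T : U →* G := MonoidHom.mk' (fun w => g * w * g⁻¹ * (w : G)⁻¹) fun w v => by
    have hwv : Commute ((w : G)⁻¹) (g * v * g⁻¹ * (v : G)⁻¹) :=
      PGroup.elemAb_comm hUab (inv_mem w.2) (mul_mem (hAU g (hKA' hgK) v v.2) (inv_mem v.2))
    calc g * (w * v : U) * g⁻¹ * ((w * v : U) : G)⁻¹
        = g * w * g⁻¹ * (g * v * g⁻¹ * (v : G)⁻¹ * (w : G)⁻¹) := by push_cast; group
      _ = _ := by rw [← hwv.eq]; group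
  obtain ⟨w, hw, hwg, hwL⟩ : ∃ w ∈ U, g * w = w * g ∧ w ∉ L := by
    by_contra hcon
    push Not at hcon
    have hJU : F₁ ⊔ F₂ ≤ U := sup_le inf_le_left inf_le_left
    set J := (F₁ ⊔ F₂).subgroupOf U with hJ
    have hJle : F₁ ⊔ F₂ ≤ (L.comap T).map U.subtype :=
      sup_le (fun u hu => ⟨⟨u, hu.1⟩, hTL u (Or.inl hu), rfl⟩) fun u hu => ⟨⟨u, hu.1⟩, hTL u (Or.inr hu), rfl⟩
    have hTJ : J.map T ≤ L := by
      rintro _ ⟨u, hu, rfl⟩
      obtain ⟨v, hv, hvu⟩ := hJle (mem_subgroupOf.1 hu)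
      rw [show u = v from Subtype.ext hvu.symm]
      exact hv
    have hker : (T.comp J.subtype).ker.map (U.subtype.comp J.subtype) ≤ L := by
      rintro _ ⟨u, hu, rfl⟩
      refine hcon _ (u : U).2 ?_
      exact mul_inv_eq_iff_eq_mul.1 (mul_inv_eq_one.1 (MonoidHom.mem_ker.1 hu))
    have hrange : Nat.card (T.comp J.subtype).range ≤ Nat.card L := by
      refine card_le_of_le ?_
      rw [MonoidHom.range_eq_map, ← Subgroup.map_map, ← MonoidHom.range_eq_map, range_subtype]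
      exact hTJ
    have hk1 : Nat.card (T.comp J.subtype).ker ≤ Nat.card L := by
      rw [← Subgroup.card_map_of_injective (f := U.subtype.comp J.subtype)
        (U.subtype_injective.comp J.subtype_injective)]
      exact card_le_of_le hker
    have hJc : Nat.card J = Nat.card ↥(F₁ ⊔ F₂) := Nat.card_congr (subgroupOfEquivOfLe hJU).toEquiv
    have h1 := (T.comp J.subtype).ker.card_mul_index
    rw [index_ker, hJc] at h1
    have h2 := PGroup.card_mul_card_le_sup_inf F₁ F₂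
    rw [hF1c, hF2c, ← h1, ← hL] at h2
    have h3 : p ^ 2 * p ^ 2 ≤ p * p * p := h2.trans
      (Nat.mul_le_mul (Nat.mul_le_mul (hk1.trans hLc) (hrange.trans hLc)) hLc)
    have h4 : p * p * p * p ≤ p * p * p * 1 := by
      rw [mul_one]
      calc p * p * p * p = p ^ 2 * p ^ 2 := by ring
        _ ≤ _ := h3
    have h5 := Nat.le_of_mul_le_mul_left h4 (Nat.mul_pos (Nat.mul_pos hp.out.pos hp.out.pos) hp.out.pos)
    have := hp.out.two_le
    omega
  refine hwL ?_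
  have hwX : w ∈ centralizer (K : Set G) := by
    refine mem_centralizer_iff.2 fun c hc => ?_
    have hcg : ∀ b ∈ B, ∀ v ∈ zpowers g, b * v = v * b := fun b hb v hv =>
      PGroup.elemAb_comm hA' (hBA hb) (zpowers_le.2 (hKA' hgK) hv)
    obtain ⟨b, hb, v, hv, rfl⟩ :=
      mem_sup_comm hcg ((hyper_sup (by omega) hA' hA'c hBA hBc (hKA' hgK) hgB).symm ▸ hKA' hc)
    have hbK : b ∈ K := by
      have := mul_mem hc (inv_mem (zpowers_le.2 hgK hv))
      rwa [mul_inv_cancel_right] at this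
    have hbB₂ : b ∈ B₂ := by
      have := hmem₂ b hb
      rwa [conj_eq_of_commute F.zz (comm_of_mem_centralizer hbK F.z_mem.2).symm] at this
    obtain ⟨i, rfl⟩ := mem_zpowers_iff.1 hv
    exact ((comm_of_mem_centralizer (K := K') ⟨hb, hbB₂⟩ (hd'.le hw.1)).mul_left
      ((show Commute g w from hwg).zpow_left i)).eq
  have hwN : w ∈ nilMod K Dp :=
    F.inverted_mem hS hd F.e_mem hee hwX (j := 1) (by rw [pow_one]; exact hUab.2 w hw) hw.2
  have hwA : ∀ a ∈ A', Commute a w := by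
    intro a ha
    obtain ⟨c, hc, x, hx, rfl⟩ := mem_sup_comm hKc (hA'le ha)
    have hxe : Commute e x := by
      have h1 : Commute e (c * x) := (hA'e _ ha).symm
      have h2 := (comm_of_mem_centralizer hc F.e_mem.2).symm.inv_right.mul_right h1
      rwa [inv_mul_cancel_left] at h2
    refine (comm_of_mem_centralizer hc hwX).mul_left (commute_of_fixed_inverted hS.odd
      (PGroup.elemAb_isPGroup F.elem) hee F.e_mem.2 hwX (conj_eq_of_commute hee hxe) hw.2 ?_).symm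
    exact hwN.2 x hx
  exact ⟨⟨hw, mem_centralizer_iff.2 fun b hb => (hwA b (hBA hb)).eq⟩,
    hw, mem_centralizer_iff.2 fun b hb => (hwA b (hB₂A hb)).eq⟩

end Frame

/-- No elementary group of order `p ^ k` centralizes an involution. -/
theorem no_centralized (hS : Setup p k G) {A : Subgroup G} {z : G} (hA : IsElementaryAbelian p A)
    (hAc : Nat.card A = p ^ k) (hzo : orderOf z = 2) (hzA : ∀ a ∈ A, a * z = z * a) : False := by
  have hk := hS.three
  obtain ⟨D, W⟩ := exists_world hS hA hAc hzo hzA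
  obtain ⟨c, hc, hc1⟩ : ∃ c ∈ A, c ≠ 1 := by
    by_contra hcon
    push Not at hcon
    rw [(eq_bot_iff_forall A).2 hcon, Subgroup.card_bot] at hAc
    exact absurd hAc.symm (Nat.one_lt_pow (by omega) hp.out.one_lt).ne'
  obtain ⟨B, B', hBA, hBc, hBm, hBA', hBc', hBm', hne, -⟩ := exists_two_members hS W hA hAc hzA hc hc1
  obtain ⟨s, t, s', t', F, -⟩ := exists_frame hS W hA hAc hzo hzA hBA hBc hBm hBA' hBc' hBm' hne
  obtain ⟨Dp, hd⟩ := F.exists_detect' hS
  exact F.false_of_frame hS hd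

end CfsgLib.KlingerMason
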