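import Cfsg.Agent.Lib.KlingerMason.World

/-!
Klinger–Mason: two members of a world give a detecting subgroup of the centralizer of their meet, a normal
`p`-subgroup containing the inverted elements, and a new elementary group of full rank.
-/

namespace CfsgLib.KlingerMason

open Subgroup Cfsg CfsgLib.Cores CfsgLib.Local
open scoped commutatorElement

variable {G : Type*} [Group G]

theorem mul_pow_mem_coset {N : Subgroup G} {x ν : G} (hx : ∀ w ∈ N, x⁻¹ * w * x ∈ N) (hν : ν ∈ N) (n : ℕ) :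
    (x ^ n)⁻¹ * (x * ν) ^ n ∈ N := by
  induction n with
  | zero => simp
  | succ n ih =>
    rw [show (x ^ (n + 1))⁻¹ * (x * ν) ^ (n + 1) = x⁻¹ * ((x ^ n)⁻¹ * (x * ν) ^ n) * x * ν by
      rw [pow_succ, pow_succ]; group]
    exact mul_mem (hx _ ih) hν

theorem mem_of_coprime_pows {H : Subgroup G} {g : G} {m n : ℕ} (h : Nat.Coprime m n) (hm : g ^ m ∈ H)
    (hn : g ^ n ∈ H) : g ∈ H := by
  have hb := Nat.gcd_eq_gcd_ab m n
  rw [h.gcd_eq_one, Nat.cast_one] at hb
  rw [← zpow_one g, hb, zpow_add, zpow_mul, zpow_natCast, zpow_mul, zpow_natCast]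
  exact mul_mem (zpow_mem hm _) (zpow_mem hn _)

theorem comm_of_mem_centralizer {K : Subgroup G} {c g : G} (hc : c ∈ K) (hg : g ∈ centralizer (K : Set G)) :
    Commute c g :=
  mem_centralizer_iff.1 hg c hc

/-- Elements fixed and inverted by an involution commute if their commutator is suitably central. -/
theorem commute_of_fixed_inverted {p : ℕ} [Fact p.Prime] (hp2 : p ≠ 2) {K : Subgroup G} (hK : IsPGroup p K)
    {i f m : G} (hi : i * i = 1) (hiK : i ∈ centralizer (K : Set G)) (hmK : m ∈ centralizer (K : Set G))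
    (hf : i * f * i = f) (hm : i * m * i = m⁻¹) (hc : ⁅m, f⁆ ∈ K) : Commute m f := by
  rw [← commutatorElement_eq_one_iff_commute]
  refine eq_one_of_sq hp2 hK hc ?_
  have hinv : i⁻¹ = i := inv_eq_of_mul_eq_one_right hi
  have h1 : i * ⁅m, f⁆ * i = ⁅m⁻¹, f⁆ := by
    calc i * ⁅m, f⁆ * i = ⁅i * m * i⁻¹, i * f * i⁻¹⁆ := by
          conv_lhs => rw [show i * ⁅m, f⁆ * i = i * ⁅m, f⁆ * i⁻¹ by rw [hinv]]
          simp only [commutatorElement_def]; group
      _ = _ := by rw [hinv, hf, hm]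
  have h2 : ⁅m⁻¹, f⁆ = ⁅m, f⁆⁻¹ := by
    calc ⁅m⁻¹, f⁆ = m⁻¹ * ⁅m, f⁆⁻¹ * m := by simp only [commutatorElement_def]; group
      _ = _ := by rw [mul_assoc, ← ((comm_of_mem_centralizer hc hmK).inv_left).symm.eq, inv_mul_cancel_left]
  rw [← (comm_of_mem_centralizer hc hiK).eq, mul_assoc, hi, mul_one, h2] at h1
  exact mul_eq_one_iff_eq_inv.2 h1

/-- Two anticommuting pairs in the centralizer of `K`, for a world of involution `z`. -/
structure Frame (p k : ℕ) (K : Subgroup G) (z : G) (D : Subgroup G) (s t s' t' : G) : Prop where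
  two : IsPGroup 2 D
  conj : ∀ g, g * z = z * g → ∀ d ∈ D, g * d * g⁻¹ ∈ D
  z_comm : ∀ d ∈ D, d * z = z * d
  elem : IsElementaryAbelian p K
  card : Nat.card K = p ^ (k - 2)
  zo : orderOf z = 2
  z_mem : z ∈ D ⊓ centralizer (K : Set G)
  s_mem : s ∈ D ⊓ centralizer (K : Set G)
  t_mem : t ∈ D ⊓ centralizer (K : Set G)
  s'_mem : s' ∈ D ⊓ centralizer (K : Set G)
  t'_mem : t' ∈ D ⊓ centralizer (K : Set G)
  ss : s * s = z
  tt : t * t = z
  ss' : s' * s' = z
  tt' : t' * t' = z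
  st : s * t = z * (t * s)
  st' : s' * t' = z * (t' * s')
  c_ss : Commute s s'
  c_st : Commute s t'
  c_ts : Commute t s'
  c_tt : Commute t t'

/-- What is used of a detecting subgroup of `O_p(C(K))`. -/
structure Detect (p : ℕ) (K Dp : Subgroup G) : Prop where
  le : Dp ≤ centralizer (K : Set G)
  pgroup : IsPGroup p Dp
  exp : ∀ d ∈ Dp, d ^ p = 1
  conj : ∀ g ∈ normalizer (K : Set G), ∀ d ∈ Dp, g * d * g⁻¹ ∈ Dp
  cls : ∀ a ∈ Dp, ∀ b ∈ Dp, ∀ c ∈ Dp, ⁅a, b⁆ * c = c * ⁅a, b⁆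
  det : ∀ g ∈ centralizer (K : Set G), (orderOf g).Coprime p → (∀ d ∈ Dp, g * d = d * g) → g = 1

theorem Detect.conj' {p : ℕ} {K Dp : Subgroup G} (hd : Detect p K Dp) {g : G} (hg : g ∈ centralizer (K : Set G))
    {d : G} (h : d ∈ Dp) : g * d * g⁻¹ ∈ Dp :=
  hd.conj g (centralizer_le_normalizer _ hg) d h

theorem Detect.conj_invol {p : ℕ} {K Dp : Subgroup G} (hd : Detect p K Dp) {i : G}
    (hi : i ∈ normalizer (K : Set G)) (hii : i * i = 1) {d : G} (h : d ∈ Dp) : i * d * i ∈ Dp := by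
  have := hd.conj i hi d h
  rwa [inv_eq_of_mul_eq_one_right hii] at this

/-- The elements of `C(K)` acting trivially on `Dp` modulo `K`. -/
def nilMod (K Dp : Subgroup G) : Subgroup G where
  carrier := {g | g ∈ centralizer (K : Set G) ∧ ∀ u ∈ Dp, g * u * g⁻¹ * u⁻¹ ∈ K}
  one_mem' := ⟨one_mem _, fun u _ => by rw [one_mul, inv_one, mul_one, mul_inv_cancel]; exact one_mem K⟩
  mul_mem' := fun {g h} hg hh => ⟨mul_mem hg.1 hh.1, fun u hu => by
    have h1 := hh.2 u hu
    rw [show g * h * u * (g * h)⁻¹ * u⁻¹ = g * (h * u * h⁻¹ * u⁻¹) * g⁻¹ * (g * u * g⁻¹ * u⁻¹) by group,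
      ← (comm_of_mem_centralizer h1 hg.1).eq, mul_inv_cancel_right]
    exact mul_mem h1 (hg.2 u hu)⟩
  inv_mem' := fun {g} hg => ⟨inv_mem hg.1, fun u hu => by
    have h1 := inv_mem (hg.2 u hu)
    rw [show g⁻¹ * u * g⁻¹⁻¹ * u⁻¹ = g⁻¹ * (g * u * g⁻¹ * u⁻¹)⁻¹ * g by group, mul_assoc,
      (comm_of_mem_centralizer h1 hg.1).eq, inv_mul_cancel_left]
    exact h1⟩

variable [Finite G] {p k : ℕ} [hp : Fact p.Prime]

theorem exists_detectOf (hS : Setup p k G) {K : Subgroup G} (hK : IsPGroup p K) (hne : K ≠ ⊥) :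
    ∃ Dp, Detect p K Dp := by
  set X := centralizer (K : Set G) with hX
  have hchar : HasCharP p ↥X := hS.charP hK hne
  obtain ⟨Dp, hle, hexp, hn, hcl, hdet⟩ := exists_detect hS.odd (isPGroup_coreOf p X)
  have hXn : ∀ g ∈ X, g ∈ normalizer (coreOf p X : Set G) := fun g hg =>
    Solvable.mem_normalizer_of_conj_mem fun q hq => conj_mem_coreOf hg hq
  refine ⟨Dp, hle.trans (coreOf_le p X), (isPGroup_coreOf p X).to_le hle, hexp, fun g hg => hn g ?_, hcl,
    fun g hg hgo hfix => ?_⟩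
  · refine Solvable.mem_normalizer_of_conj_mem fun q hq => ?_
    have hgi := inv_mem hg
    have hX' : ∀ h ∈ normalizer (K : Set G), ∀ x ∈ X, h * x * h⁻¹ ∈ X := fun h hh x hx => by
      refine mem_centralizer_iff.2 fun c hc => ?_
      have h' : h⁻¹ * c * h ∈ K := ((mem_normalizer_iff''.1 hh) c).1 hc
      have := mem_centralizer_iff.1 hx _ h'
      calc c * (h * x * h⁻¹) = h * (h⁻¹ * c * h * x) * h⁻¹ := by group
        _ = h * (x * (h⁻¹ * c * h)) * h⁻¹ := by rw [this]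
        _ = _ := by group
    refine le_coreOf (p := p) (N := (coreOf p X).map (MulAut.conj g).toMonoidHom) ?_ ?_
      ((isPGroup_coreOf p X).map _) ⟨q, hq, rfl⟩
    · rintro _ ⟨w, hw, rfl⟩
      exact hX' g hg w (coreOf_le p X hw)
    · rintro h hh _ ⟨w, hw, rfl⟩
      refine ⟨(g⁻¹ * h * g) * w * (g⁻¹ * h * g)⁻¹, conj_mem_coreOf ?_ hw, ?_⟩
      · simpa using hX' g⁻¹ hgi h hh
      · show g * _ * g⁻¹ = h * (g * w * g⁻¹) * h⁻¹
        group
  · have h1 := hdet g (hXn g hg) hgo hfix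
    obtain ⟨j, hj⟩ := isPGroup_coreOf p X
      ⟨g, mem_coreOf_of_commute hchar hg fun q hq => (h1 q hq).symm⟩
    exact eq_one_of_coprime_pows (hgo.pow_right j) (pow_orderOf_eq_one g) (congrArg Subtype.val hj)

namespace Frame

variable {K D Dp : Subgroup G} {z s t s' t' : G}

omit [Finite G] hp in
theorem zz (F : Frame p k K z D s t s' t') : z * z = 1 := by rw [← pow_two, ← F.zo, pow_orderOf_eq_one]

omit [Finite G] hp in
theorem zne (F : Frame p k K z D s t s' t') : z ≠ 1 := fun h => by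
  have := F.zo; rw [h, orderOf_one] at this; norm_num at this

omit [Finite G] hp in
theorem zc (F : Frame p k K z D s t s' t') {x : G} (hx : x ∈ D ⊓ centralizer (K : Set G)) : Commute x z :=
  F.z_comm x hx.1

omit [Finite G] hp in
theorem ee (F : Frame p k K z D s t s' t') : (s * s') * (s * s') = 1 := by
  rw [F.c_ss.symm.mul_mul_mul_comm, F.ss, F.ss', F.zz]

omit [Finite G] hp in
theorem t0t0 (F : Frame p k K z D s t s' t') : (t * t') * (t * t') = 1 := by
  rw [F.c_tt.symm.mul_mul_mul_comm, F.tt, F.tt', F.zz]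

omit [Finite G] hp in
theorem e_mem (F : Frame p k K z D s t s' t') : s * s' ∈ D ⊓ centralizer (K : Set G) := mul_mem F.s_mem F.s'_mem

omit [Finite G] hp in
theorem t0_mem (F : Frame p k K z D s t s' t') : t * t' ∈ D ⊓ centralizer (K : Set G) := mul_mem F.t_mem F.t'_mem

omit [Finite G] hp in
theorem s_e (F : Frame p k K z D s t s' t') : Commute s (s * s') := (Commute.refl s).mul_right F.c_ss

omit [Finite G] hp in
theorem e_t0 (F : Frame p k K z D s t s' t') : Commute (s * s') (t * t') := by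
  show s * s' * (t * t') = t * t' * (s * s')
  calc s * s' * (t * t') = s * t * (s' * t') := F.c_ts.symm.mul_mul_mul_comm _ _
    _ = z * (t * s) * (z * (t' * s')) := by rw [F.st, F.st']
    _ = (z * z) * ((t * s) * (t' * s')) := by
        rw [← mul_assoc (z * (t * s)), mul_assoc z, ((F.zc F.t_mem).mul_left (F.zc F.s_mem)).eq]; group
    _ = _ := by rw [F.zz, one_mul, F.c_st.mul_mul_mul_comm]

omit [Finite G] hp in
theorem e_t (F : Frame p k K z D s t s' t') : s * s' * t = z * (t * (s * s')) := by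
  rw [mul_assoc, F.c_ts.symm.eq, ← mul_assoc, F.st]
  group

omit [Finite G] hp in
theorem t0_s (F : Frame p k K z D s t s' t') : t * t' * s = z * (s * (t * t')) := by
  rw [mul_assoc, F.c_st.symm.eq, ← mul_assoc, ← mul_assoc s, F.st, ← mul_assoc z, ← mul_assoc z,
    F.zz]
  group

omit [Finite G] hp in
theorem e_ne (F : Frame p k K z D s t s' t') : s * s' ≠ 1 := fun h => F.zne <| by
  have h1 := F.e_t
  rw [h, one_mul, mul_one] at h1
  exact mul_eq_right.1 h1.symm

omit hp in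
theorem e_order (F : Frame p k K z D s t s' t') : orderOf (s * s') = 2 :=
  orderOf_eq_prime (by rw [pow_two]; exact F.ee) F.e_ne

omit hp in
/-- The group generated by `z`, `e` and `t₀`. -/
theorem exists_eight (F : Frame p k K z D s t s' t') :
    ∃ E : Subgroup G, IsElementaryAbelian 2 E ∧ Nat.card E = 2 ^ (2 + 1) ∧
      ∀ y : G, Commute y z → Commute y (s * s') → Commute y (t * t') → ∀ w ∈ E, Commute y w := by
  have hzo := F.zo
  have hez : ∀ w ∈ zpowers z, w * (s * s') = s * s' * w := fun w hw => by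
    obtain ⟨i, rfl⟩ := mem_zpowers_iff.1 hw
    exact ((F.zc F.e_mem).zpow_right i).symm
  have he : s * s' ∉ zpowers z := fun h => F.zne <| by
    obtain ⟨i, hi⟩ := mem_zpowers_iff.1 h
    have h1 : Commute (s * s') t := hi ▸ (F.zc F.t_mem).symm.zpow_left i
    have h2 := F.e_t
    rw [h1.eq] at h2
    exact mul_eq_right.1 h2.symm
  have h4 : Nat.card ↥(zpowers z ⊔ zpowers (s * s')) = 2 ^ 2 := by
    rw [card_sup_zpowers Nat.prime_two hez (by rw [pow_two, F.ee]) he, Nat.card_zpowers, hzo]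
    norm_num
  have hgen : ∀ y : G, Commute y z → Commute y (s * s') →
      ∀ w ∈ zpowers z ⊔ zpowers (s * s'), Commute y w := by
    intro y h1 h2 w hw
    have hle : zpowers z ⊔ zpowers (s * s') ≤ centralizer ({y} : Set G) :=
      sup_le (zpowers_le.2 (mem_centralizer_singleton_iff.2 h1.symm))
        (zpowers_le.2 (mem_centralizer_singleton_iff.2 h2.symm))
    exact (mem_centralizer_singleton_iff.1 (hle hw)).symm
  have ht0 : ∀ w ∈ zpowers z ⊔ zpowers (s * s'), w * (t * t') = t * t' * w := fun w hw =>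
    (hgen _ (F.zc F.t0_mem) F.e_t0.symm w hw).symm
  have ht0n : t * t' ∉ zpowers z ⊔ zpowers (s * s') := fun h => F.zne <| by
    have h1 : Commute s (t * t') := hgen s (F.zc F.s_mem) F.s_e _ h
    have h2 := F.t0_s
    rw [h1.eq] at h2
    exact mul_eq_right.1 h2.symm
  refine ⟨zpowers z ⊔ zpowers (s * s') ⊔ zpowers (t * t'),
    elemAb_sup_zpowers (elemAb_sup_zpowers (elemAb_two_zpowers hzo) hez (by rw [pow_two, F.ee])) ht0
      (by rw [pow_two, F.t0t0]), ?_, fun y h1 h2 h3 w hw => ?_⟩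
  · rw [card_sup_zpowers Nat.prime_two ht0 (by rw [pow_two, F.t0t0]) ht0n, h4]
    norm_num
  · have hle : zpowers z ⊔ zpowers (s * s') ⊔ zpowers (t * t') ≤ centralizer ({y} : Set G) :=
      sup_le (fun v hv => mem_centralizer_singleton_iff.2 (hgen y h1 h2 v hv).symm)
        (zpowers_le.2 (mem_centralizer_singleton_iff.2 h3.symm))
    exact (mem_centralizer_singleton_iff.1 (hle hw)).symm

variable (hS : Setup p k G) (hd : Detect p K Dp)

include hS hd

/-- The fixed points of `z` lie in `K`. -/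
theorem fixed_le (F : Frame p k K z D s t s' t') {y : G} (hy : y ∈ Dp) (hyz : y * z = z * y) : y ∈ K := by
  by_contra hyK
  have hYc : ∀ η ∈ D ⊓ centralizer (K : Set G), Commute y η := fun η hη => by
    refine commutatorElement_eq_one_iff_commute.1
      (eq_one_of_mem_two hS.odd hd.pgroup F.two (c := ⁅y, η⁆) ?_ ?_)
    · rw [commutatorElement_def, mul_assoc, mul_assoc, ← mul_assoc η]
      exact mul_mem hy (hd.conj' hη.2 (inv_mem hy))
    · exact mul_mem (F.conj y hyz η hη.1) (inv_mem hη.1)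
  obtain ⟨E, hE, hEc, hgen⟩ := F.exists_eight
  have hyK' : ∀ c ∈ K, c * y = y * c := fun c hc => (comm_of_mem_centralizer hc (hd.le hy)).eq
  have hk := hS.three
  have := hS.rank_bound (b := k - 2 + 1) (n := 2) (elemAb_sup_zpowers F.elem hyK' (hd.exp y hy))
    (by rw [card_sup_zpowers hp.out hyK' (hd.exp y hy) hyK, F.card, pow_succ]) (by omega) hE hEc
    fun x hx w hw => by
      obtain ⟨c, hc, v, hv, rfl⟩ := mem_sup_comm (fun c hc v hv => by
        obtain ⟨i, rfl⟩ := mem_zpowers_iff.1 hv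
        exact (show Commute c y from hyK' c hc).zpow_right i) hx
      obtain ⟨i, rfl⟩ := mem_zpowers_iff.1 hv
      have h1 : Commute y w := hgen y hyz (hYc _ F.e_mem) (hYc _ F.t0_mem) w hw
      have h2 : Commute c w := hgen c (comm_of_mem_centralizer hc F.z_mem.2)
        (comm_of_mem_centralizer hc F.e_mem.2) (comm_of_mem_centralizer hc F.t0_mem.2) w hw
      exact (h2.mul_left (h1.zpow_left i)).eq
  omega

/-- The involution `z` inverts `Dp` modulo `K`. -/
theorem zinv (F : Frame p k K z D s t s' t') {u : G} (hu : u ∈ Dp) : z * u * z * u ∈ K := by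
  obtain ⟨f, hf, m, hm, rfl, hfz, hmz, -⟩ := exists_fixed_inverted hS.odd hd.pgroup F.zz
    (fun x hx => hd.conj_invol (centralizer_le_normalizer _ F.z_mem.2) F.zz hx) hu
  have hfK : f ∈ K := F.fixed_le hS hd hf (by
    conv_rhs => rw [← hfz, ← mul_assoc, ← mul_assoc, F.zz, one_mul])
  have h1 : z * (f * m) * z = f * m⁻¹ := by
    calc z * (f * m) * z = z * f * (z * z) * m * z := by rw [F.zz]; group
      _ = (z * f * z) * (z * m * z) := by group
      _ = _ := by rw [hfz, hmz]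
  rw [h1, (comm_of_mem_centralizer hfK (hd.le (inv_mem hm))).symm.mul_mul_mul_comm]
  rw [show f * f * (m⁻¹ * m) = f * f by group]
  exact mul_mem hfK hfK

theorem comm_mem (F : Frame p k K z D s t s' t') {u v : G} (hu : u ∈ Dp) (hv : v ∈ Dp) : ⁅u, v⁆ ∈ K := by
  have hc : ⁅u, v⁆ ∈ Dp := mul_mem (mul_mem (mul_mem hu hv) (inv_mem hu)) (inv_mem hv)
  refine F.fixed_le hS hd hc ?_
  have hcu := hd.cls u hu v hv
  have hzi : z⁻¹ = z := inv_eq_of_mul_eq_one_right F.zz
  obtain ⟨a, ha, ha'⟩ : ∃ a ∈ K, z * u * z = a * u⁻¹ := ⟨_, F.zinv hS hd hu, by group⟩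
  obtain ⟨b, hb, hb'⟩ : ∃ b ∈ K, z * v * z = b * v⁻¹ := ⟨_, F.zinv hS hd hv, by group⟩
  have key : z * ⁅u, v⁆ * z = ⁅u, v⁆ := by
    calc z * ⁅u, v⁆ * z = ⁅z * u * z⁻¹, z * v * z⁻¹⁆ := by
          conv_lhs => rw [show z * ⁅u, v⁆ * z = z * ⁅u, v⁆ * z⁻¹ by rw [hzi]]
          simp only [commutatorElement_def]; group
      _ = ⁅a * u⁻¹, b * v⁻¹⁆ := by rw [hzi, ha', hb']
      _ = a * (u⁻¹ * b) * v⁻¹ * u * a⁻¹ * v * b⁻¹ := by simp only [commutatorElement_def]; group
      _ = a * b * u⁻¹ * (v⁻¹ * u) * a⁻¹ * v * b⁻¹ := by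
          rw [← (comm_of_mem_centralizer hb (hd.le (inv_mem hu))).eq]; group
      _ = (a * b) * (u⁻¹ * v⁻¹ * u * v) * a⁻¹ * b⁻¹ := by
          have := (comm_of_mem_centralizer (inv_mem ha) (hd.le hv)).eq
          calc a * b * u⁻¹ * (v⁻¹ * u) * a⁻¹ * v * b⁻¹ = a * b * u⁻¹ * (v⁻¹ * u) * (a⁻¹ * v) * b⁻¹ := by group
            _ = _ := by rw [this]; group
      _ = (a * b) * ⁅u, v⁆ * a⁻¹ * b⁻¹ := by
          have : u⁻¹ * v⁻¹ * u * v = ⁅u, v⁆ := by
            calc u⁻¹ * v⁻¹ * u * v = (v * u)⁻¹ * (⁅u, v⁆ * (v * u)) := by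
                  simp only [commutatorElement_def]; group
              _ = _ := by rw [hcu _ (mul_mem hv hu), inv_mul_cancel_left]
          rw [this]
      _ = _ := by
          rw [((comm_of_mem_centralizer ha (hd.le hc)).mul_left (comm_of_mem_centralizer hb (hd.le hc))).eq,
            mul_assoc ⁅u, v⁆, mul_assoc ⁅u, v⁆, show a * b * a⁻¹ * b⁻¹ = ⁅a, b⁆ from rfl,
            commutatorElement_eq_one_iff_mul_comm.2 (PGroup.elemAb_comm F.elem ha hb), mul_one]
  calc ⁅u, v⁆ * z = z * ⁅u, v⁆ * z * z := by rw [key]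
    _ = _ := by rw [mul_assoc, F.zz, mul_one]

omit hS in
theorem conj_mem (_F : Frame p k K z D s t s' t') {g x : G} (hg : g ∈ centralizer (K : Set G))
    (hx : x ∈ nilMod K Dp) : g * x * g⁻¹ ∈ nilMod K Dp := by
  refine ⟨mul_mem (mul_mem hg hx.1) (inv_mem hg), fun u hu => ?_⟩
  have h := hx.2 _ (hd.conj' (inv_mem hg) hu)
  rw [show g * x * g⁻¹ * u * (g * x * g⁻¹)⁻¹ * u⁻¹ =
    g * (x * (g⁻¹ * u * g⁻¹⁻¹) * x⁻¹ * (g⁻¹ * u * g⁻¹⁻¹)⁻¹) * g⁻¹ by group,
    ← (comm_of_mem_centralizer h hg).eq, mul_inv_cancel_right]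
  exact h

theorem nil_pgroup (F : Frame p k K z D s t s' t') : IsPGroup p (nilMod K Dp) := by
  rintro ⟨g, hg⟩
  obtain ⟨a, m, hm, hgo⟩ := Nat.exists_eq_pow_mul_and_not_dvd (orderOf_pos g).ne' p hp.out.ne_one
  refine ⟨a, Subtype.ext (?_ : g ^ p ^ a = 1)⟩
  set h := g ^ p ^ a with hh
  have hhm : h ^ m = 1 := by rw [hh, ← pow_mul, ← hgo, pow_orderOf_eq_one]
  have hmp : Nat.Coprime p m := (hp.out.coprime_iff_not_dvd).2 hm
  have hhN : h ∈ nilMod K Dp := pow_mem hg _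
  refine hd.det h hhN.1 (Nat.Coprime.coprime_dvd_left (orderOf_dvd_of_pow_eq_one hhm) hmp.symm) fun u hu => ?_
  have hc := hhN.2 u hu
  set c := h * u * h⁻¹ * u⁻¹ with hcdef
  have hpw : ∀ n : ℕ, h ^ n * u * (h ^ n)⁻¹ = c ^ n * u := by
    intro n
    induction n with
    | zero => simp
    | succ n ih =>
      have hcn : Commute (c ^ n) h := (comm_of_mem_centralizer hc hhN.1).pow_left n
      calc h ^ (n + 1) * u * (h ^ (n + 1))⁻¹ = h * (h ^ n * u * (h ^ n)⁻¹) * h⁻¹ := by rw [pow_succ']; group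
        _ = h * c ^ n * u * h⁻¹ := by rw [ih]; group
        _ = c ^ n * (h * u * h⁻¹) := by rw [← hcn.eq]; group
        _ = _ := by rw [pow_succ, hcdef]; group
  have h1 := hpw m
  rw [hhm, inv_one, one_mul, mul_one] at h1
  have hc1 : c = 1 := eq_one_of_coprime_pows hmp (F.elem.2 c hc) (mul_eq_right.1 h1.symm)
  exact mul_inv_eq_iff_eq_mul.1 (mul_inv_eq_one.1 (hcdef ▸ hc1))

/-- `z` and its conjugates agree modulo `nilMod K Dp`. -/
theorem zconj_mem (F : Frame p k K z D s t s' t') {g : G} (hg : g ∈ centralizer (K : Set G)) :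
    g * z * g⁻¹ * z ∈ nilMod K Dp := by
  have hzi : z⁻¹ = z := inv_eq_of_mul_eq_one_right F.zz
  refine ⟨mul_mem (mul_mem (mul_mem hg F.z_mem.2) (inv_mem hg)) F.z_mem.2, fun u hu => ?_⟩
  have hv : g⁻¹ * u * g ∈ Dp := by simpa using hd.conj' (inv_mem hg) hu
  have h1 := F.zinv hS hd (inv_mem hv)
  have h2 := F.zinv hS hd hu
  set c₂ := z * (g⁻¹ * u * g)⁻¹ * z * (g⁻¹ * u * g)⁻¹ with hc₂
  set c₁ := z * u * z * u with hc₁
  have e1 : g * z * g⁻¹ * z * u * (g * z * g⁻¹ * z)⁻¹ * u⁻¹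
      = g * z * g⁻¹ * c₁ * g * (g⁻¹ * u * g)⁻¹ * z⁻¹ * g⁻¹ * u⁻¹ := by
    rw [hc₁, mul_inv_rev, mul_inv_rev, mul_inv_rev, hzi, inv_inv]; group
  have hc1g : Commute c₁ g := comm_of_mem_centralizer h2 hg
  have hc1z : Commute c₁ z := comm_of_mem_centralizer h2 F.z_mem.2
  have e2 : g * z * g⁻¹ * c₁ * g = c₁ * (g * z) := by
    rw [mul_assoc, hc1g.eq, ← mul_assoc, inv_mul_cancel_right, mul_assoc g z c₁, ← hc1z.eq, ← mul_assoc,
      ← hc1g.eq, mul_assoc]
  rw [e1, e2, show c₁ * (g * z) * (g⁻¹ * u * g)⁻¹ * z⁻¹ * g⁻¹ * u⁻¹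
      = c₁ * (g * (z * (g⁻¹ * u * g)⁻¹ * z * (g⁻¹ * u * g)⁻¹) * g⁻¹) by rw [hzi]; group, ← hc₂,
    ← (comm_of_mem_centralizer h1 hg).eq, mul_inv_cancel_right]
  exact mul_mem h2 h1

theorem inverted_z_mem (F : Frame p k K z D s t s' t') {g : G} (hg : g ∈ centralizer (K : Set G)) {j : ℕ}
    (hgp : g ^ p ^ j = 1) (hgz : z * g * z = g⁻¹) : g ∈ nilMod K Dp := by
  have h := F.zconj_mem hS hd hg
  rw [show g * z * g⁻¹ * z = g * (z * g * z)⁻¹ by
    rw [mul_inv_rev, mul_inv_rev, inv_eq_of_mul_eq_one_right F.zz]; group, hgz, inv_inv, ← pow_two] at h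
  exact mem_of_coprime_pows (((Nat.coprime_primes Nat.prime_two hp.out).2 (Ne.symm hS.odd)).pow_right j) h
    (by rw [hgp]; exact one_mem _)

theorem inverted_mem (F : Frame p k K z D s t s' t') {i g : G} (hi : i ∈ D ⊓ centralizer (K : Set G))
    (hii : i * i = 1) (hg : g ∈ centralizer (K : Set G)) {j : ℕ}
    (hgp : g ^ p ^ j = 1) (hgi : i * g * i = g⁻¹) : g ∈ nilMod K Dp := by
  set m := g⁻¹ * z * g⁻¹⁻¹ * z with hm
  have hmN : m ∈ nilMod K Dp := F.zconj_mem hS hd (inv_mem hg)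
  have hmz : z * m * z = m⁻¹ := by
    rw [hm, mul_inv_rev, mul_inv_rev, mul_inv_rev, inv_eq_of_mul_eq_one_right F.zz]
    calc z * (g⁻¹ * z * g⁻¹⁻¹ * z) * z = z * g⁻¹ * z * g * (z * z) := by group
      _ = _ := by rw [F.zz]; group
  obtain ⟨l, hl⟩ := F.nil_pgroup hS hd ⟨m, hmN⟩
  have hl' : m ^ p ^ l = 1 := congrArg Subtype.val hl
  obtain ⟨r, hr⟩ := (hp.out.odd_of_ne_two hS.odd).pow (n := l)
  set n := m ^ (r + 1) with hn
  have hn2 : n * n = m := by
    rw [hn, ← pow_add, show r + 1 + (r + 1) = p ^ l + 1 by omega, pow_succ, hl', one_mul]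
  have hnN : n ∈ nilMod K Dp := pow_mem hmN _
  have hnz : z * n * z = n⁻¹ := by rw [hn, conj_pow_of_sq F.zz, hmz, inv_pow]
  set c := g * n with hc
  have hcz : c * z = z * c := by
    have h1 : z * c * z = c := by
      calc z * c * z = (z * g * z) * (z * n * z) := by
            rw [hc, show z * g * z * (z * n * z) = z * g * (z * z) * n * z by group, F.zz]; group
        _ = g * m * n⁻¹ := by rw [hnz, hm]; group
        _ = c := by rw [hc, ← hn2]; group
    calc c * z = z * c * z * z := by rw [h1]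
      _ = _ := by rw [mul_assoc, F.zz, mul_one]
  set ζ := i * (c * i * c⁻¹) with hζ
  have hζD : ζ ∈ D := mul_mem hi.1 (F.conj c hcz i hi.1)
  have hζX : ζ ∈ centralizer (K : Set G) :=
    mul_mem hi.2 (mul_mem (mul_mem (mul_mem hg hnN.1) hi.2) (inv_mem (mul_mem hg hnN.1)))
  have hiv : i⁻¹ = i := inv_eq_of_mul_eq_one_right hii
  have hν : ζ * g ^ 2 ∈ nilMod K Dp := by
    have h1 : i * n * i⁻¹ * n⁻¹ ∈ nilMod K Dp := mul_mem (F.conj_mem hd hi.2 hnN) (inv_mem hnN)
    have h2 := F.conj_mem hd (inv_mem hg) h1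
    convert h2 using 1
    calc ζ * g ^ 2 = (i * g * i) * (i⁻¹ * (n * i * n⁻¹)) * g⁻¹ * g ^ 2 := by rw [hζ, hc]; group
      _ = g⁻¹ * (i * n * i⁻¹ * n⁻¹) * g⁻¹⁻¹ := by rw [hgi, hiv]; group
  obtain ⟨l', hl2⟩ := F.two ⟨ζ, hζD⟩
  have hl2' : ζ ^ 2 ^ l' = 1 := congrArg Subtype.val hl2
  have hpow := mul_pow_mem_coset (x := ζ⁻¹) (fun w hw => F.conj_mem hd (inv_mem (inv_mem hζX)) hw |> fun h => by
    simpa using h) hν (2 ^ l')
  rw [inv_pow, hl2', inv_one, inv_one, one_mul, inv_mul_cancel_left, ← pow_mul, ← pow_succ'] at hpow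
  exact mem_of_coprime_pows (((Nat.coprime_primes Nat.prime_two hp.out).2 (Ne.symm hS.odd)).pow _ j) hpow
    (by rw [hgp]; exact one_mem _)

/-- Conjugating an element inverted by `i` with `r`, where `i r = z r i`, gives a fixed one. -/
theorem flip (F : Frame p k K z D s t s' t') {i r m : G} (hii : i * i = 1)
    (hi : i ∈ centralizer (K : Set G)) (hr : r ∈ centralizer (K : Set G)) (hir : i * r = z * (r * i))
    (hm : m ∈ Dp) (hmi : i * m * i = m⁻¹) : i * (r * m * r⁻¹) * i = r * m * r⁻¹ := by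
  set g := r * m * r⁻¹ with hg
  have hgD : g ∈ Dp := hd.conj' hr hm
  have hiv : i⁻¹ = i := inv_eq_of_mul_eq_one_right hii
  have h1 : i * g * i = z * g⁻¹ * z := by
    calc i * g * i = (i * r) * m * (i * r)⁻¹ := by rw [hg, mul_inv_rev, hiv]; group
      _ = z * r * (i * m * i) * r⁻¹ * z := by
          rw [hir, mul_inv_rev, mul_inv_rev, hiv, inv_eq_of_mul_eq_one_right F.zz]; group
      _ = _ := by rw [hmi, hg]; group
  have hc := F.zinv hS hd (inv_mem hgD)
  set c := z * g⁻¹ * z * g⁻¹ with hcdef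
  have h2 : i * g * i = c * g := by rw [h1, hcdef]; group
  have hci : Commute c i := comm_of_mem_centralizer hc hi
  have h3 : c * c * g = g := by
    calc c * c * g = c * (i * g * i) := by rw [h2]; group
      _ = i * (c * g) * i := by rw [← mul_assoc, ← mul_assoc, hci.eq]; group
      _ = (i * i) * g * (i * i) := by rw [← h2]; group
      _ = g := by rw [hii]; group
  rw [h2, eq_one_of_sq hS.odd (PGroup.elemAb_isPGroup F.elem) hc (mul_eq_right.1 h3), one_mul]

/-- A new elementary group of order `p ^ k` centralizing `e`. -/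
theorem exists_next (F : Frame p k K z D s t s' t') :
    ∃ A' : Subgroup G, IsElementaryAbelian p A' ∧ Nat.card A' = p ^ k ∧
      (∀ a ∈ A', a * (s * s') = s * s' * a) ∧ K ≤ A' ∧ A' ≤ K ⊔ Dp := by
  have hKp := PGroup.elemAb_isPGroup F.elem
  have hcK : ∀ i ∈ centralizer (K : Set G), ∀ m : G, m ∉ K → i * m * i⁻¹ ∉ K := fun i hi m hm h => hm (by
    have h1 := (comm_of_mem_centralizer h hi).eq
    rw [inv_mul_cancel_right] at h1
    exact mul_left_cancel h1 ▸ h)
  have hn : ∀ i ∈ centralizer (K : Set G), i * i = 1 → ∀ x ∈ Dp, i * x * i ∈ Dp := fun i hi hii x hx =>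
    hd.conj_invol (centralizer_le_normalizer _ hi) hii hx
  obtain ⟨u, hu, huK⟩ : ∃ u ∈ Dp, u ∉ K := by
    by_contra hcon
    push Not at hcon
    refine F.zne (hd.det z F.z_mem.2 ?_ fun d hd' => (comm_of_mem_centralizer (hcon d hd') F.z_mem.2).symm.eq)
    rw [F.zo]
    exact (Nat.coprime_primes Nat.prime_two hp.out).2 (Ne.symm hS.odd)
  obtain ⟨u₁, hu₁, hu₁K, hu₁e⟩ : ∃ u ∈ Dp, u ∉ K ∧ s * s' * u * (s * s') = u := by
    obtain ⟨f, hf, m, hm, rfl, hfe, hme, -⟩ :=
      exists_fixed_inverted hS.odd hd.pgroup F.ee (hn _ F.e_mem.2 F.ee) hu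
    by_cases hfK : f ∈ K
    · exact ⟨t * m * t⁻¹, hd.conj' F.t_mem.2 hm, hcK _ F.t_mem.2 m fun h => huK (mul_mem hfK h),
        F.flip hS hd F.ee F.e_mem.2 F.t_mem.2 F.e_t hm hme⟩
    · exact ⟨f, hf, hfK, hfe⟩
  have hcomm_of : ∀ {i x : G}, i * i = 1 → i * x * i = x → Commute i x := fun {i x} hii h => by
    show i * x = x * i
    calc i * x = i * x * (i * i) := by rw [hii, mul_one]
      _ = i * x * i * i := by group
      _ = x * i := by rw [h]
  obtain ⟨y, hy, hyK, hye, hyt⟩ :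
      ∃ y ∈ Dp, y ∉ K ∧ s * s' * y * (s * s') = y ∧ t * t' * y * (t * t') = y := by
    have hfix : ∀ {i x : G}, i * i = 1 → Commute i x → i * x * i = x := fun {i x} hii h => by
      rw [h.eq, mul_assoc, hii, mul_one]
    obtain ⟨f, hf, m, hm, rfl, hft, hmt, hcm⟩ :=
      exists_fixed_inverted hS.odd hd.pgroup F.t0t0 (hn _ F.t0_mem.2 F.t0t0) hu₁
    obtain ⟨hef, hem⟩ := hcm (s * s') (hcomm_of F.ee hu₁e) F.e_t0
    by_cases hfK : f ∈ K
    · refine ⟨s * m * s⁻¹, hd.conj' F.s_mem.2 hm, hcK _ F.s_mem.2 m fun h => hu₁K (mul_mem hfK h),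
        hfix F.ee ?_, F.flip hS hd F.t0t0 F.t0_mem.2 F.s_mem.2 F.t0_s hm hmt⟩
      exact (F.s_e.symm.mul_right hem).mul_right F.s_e.symm.inv_right
    · exact ⟨f, hf, hfK, hfix F.ee hef, hft⟩
  set y' := s * y * s⁻¹ with hy'
  have hy'D : y' ∈ Dp := hd.conj' F.s_mem.2 hy
  have hy'K : y' ∉ K := hcK _ F.s_mem.2 y hyK
  have hye' : Commute (s * s') y := hcomm_of F.ee hye
  have hy'e : Commute (s * s') y' := (F.s_e.symm.mul_right hye').mul_right F.s_e.symm.inv_right
  have ht0inv : (t * t')⁻¹ = t * t' := inv_eq_of_mul_eq_one_right F.t0t0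
  have hzi : z⁻¹ = z := inv_eq_of_mul_eq_one_right F.zz
  have hflip : t * t' * y' * (t * t') = z * y' * z := by
    calc t * t' * y' * (t * t') = (t * t' * s) * y * (t * t' * s)⁻¹ := by
          rw [hy', mul_inv_rev, ht0inv]; group
      _ = z * s * (t * t' * y * (t * t')) * s⁻¹ * z := by
          rw [F.t0_s, mul_inv_rev, mul_inv_rev, ht0inv, hzi]; group
      _ = _ := by rw [hyt, hy']; group
  have hyy' : Commute y y' := by
    refine commutatorElement_eq_one_iff_commute.1 (eq_one_of_sq hS.odd hKp (F.comm_mem hS hd hy hy'D) ?_)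
    have hc := F.comm_mem hS hd hy hy'D
    have ha := F.zinv hS hd hy'D
    set a := z * y' * z * y' with hadef
    have e1 : t * t' * ⁅y, y'⁆ * (t * t') = ⁅y, a * y'⁻¹⁆ := by
      calc t * t' * ⁅y, y'⁆ * (t * t') = ⁅t * t' * y * (t * t')⁻¹, t * t' * y' * (t * t')⁻¹⁆ := by
            conv_lhs => rw [show t * t' * ⁅y, y'⁆ * (t * t') = t * t' * ⁅y, y'⁆ * (t * t')⁻¹ by rw [ht0inv]]
            simp only [commutatorElement_def]; group
        _ = _ := by rw [ht0inv, hyt, hflip, hadef]; group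
    have e2 : ⁅y, a * y'⁻¹⁆ = y'⁻¹ * ⁅y, y'⁆⁻¹ * y' := by
      calc ⁅y, a * y'⁻¹⁆ = y * a * y'⁻¹ * y⁻¹ * y' * a⁻¹ := by simp only [commutatorElement_def]; group
        _ = a * (y * y'⁻¹ * y⁻¹ * y') * a⁻¹ := by rw [← (comm_of_mem_centralizer ha (hd.le hy)).eq]; group
        _ = y * y'⁻¹ * y⁻¹ * y' := by
          rw [(comm_of_mem_centralizer ha (mul_mem (mul_mem (mul_mem (hd.le hy) (inv_mem (hd.le hy'D)))
            (inv_mem (hd.le hy))) (hd.le hy'D))).eq, mul_inv_cancel_right]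
        _ = _ := by simp only [commutatorElement_def]; group
    rw [e2, mul_assoc y'⁻¹, (comm_of_mem_centralizer (inv_mem hc) (hd.le hy'D)).eq, inv_mul_cancel_left,
      ← (comm_of_mem_centralizer hc F.t0_mem.2).eq, mul_assoc, F.t0t0, mul_one] at e1
    exact mul_eq_one_iff_eq_inv.2 e1
  have hyc : ∀ c ∈ K, c * y = y * c := fun c hc => (comm_of_mem_centralizer hc (hd.le hy)).eq
  have hy'c : ∀ c ∈ K ⊔ zpowers y, c * y' = y' * c := commute_sup rfl
    (fun c hc => (comm_of_mem_centralizer hc (hd.le hy'D)).eq) hyy'.eq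
  have hy'n : y' ∉ K ⊔ zpowers y := fun h => hy'K <| F.fixed_le hS hd hy'D <| by
    have hfix : t * t' * y' = y' * (t * t') := (commute_sup (x := t * t') rfl
      (fun c hc => (comm_of_mem_centralizer hc F.t0_mem.2).eq) (hcomm_of F.t0t0 hyt).symm.eq y' h).symm
    rw [hfix, mul_assoc, F.t0t0, mul_one] at hflip
    calc y' * z = z * y' * z * z := by rw [← hflip]
      _ = _ := by rw [mul_assoc, F.zz, mul_one]
  refine ⟨K ⊔ zpowers y ⊔ zpowers y', elemAb_sup_zpowers (elemAb_sup_zpowers F.elem hyc (hd.exp y hy)) hy'c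
    (hd.exp y' hy'D), ?_, ?_, le_sup_left.trans le_sup_left,
    sup_le (sup_le le_sup_left ((zpowers_le.2 hy).trans le_sup_right)) ((zpowers_le.2 hy'D).trans le_sup_right)⟩
  · rw [card_sup_zpowers hp.out hy'c (hd.exp y' hy'D) hy'n, card_sup_zpowers hp.out hyc (hd.exp y hy) hyK, F.card,
      ← pow_succ, ← pow_succ]
    congr 1
    have := hS.three
    omega
  · exact commute_sup rfl (commute_sup rfl (fun c hc => (comm_of_mem_centralizer hc F.e_mem.2).eq)
      hye'.symm.eq) hy'e.symm.eq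

end Frame

end CfsgLib.KlingerMason
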