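import Cfsg.Agent.Lib.KlingerMason.Basic

/-!
Klinger–Mason: the structure of `O₂` of the centralizer of an involution centralizing a large elementary `p`-group.
-/

namespace CfsgLib.KlingerMason

open Subgroup Cfsg CfsgLib.Cores CfsgLib.Local
open scoped commutatorElement

variable {G : Type*} [Group G]

theorem mem_cent_zpowers {z g : G} : g ∈ centralizer (zpowers z : Set G) ↔ g * z = z * g := by
  refine ⟨fun h => (mem_centralizer_iff.1 h z (mem_zpowers z)).symm, fun h => mem_centralizer_iff.2 fun w hw => ?_⟩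
  obtain ⟨i, rfl⟩ := mem_zpowers_iff.1 hw
  exact ((show Commute g z from h).zpow_right i).symm

/-- `B` and one further element fix `x`, so their join does. -/
theorem commute_sup {A B : Subgroup G} {a x : G} (hA : B ⊔ zpowers a = A) (hB : ∀ b ∈ B, b * x = x * b)
    (ha : a * x = x * a) : ∀ c ∈ A, c * x = x * c := by
  have hle : A ≤ centralizer ({x} : Set G) := by
    rw [← hA]
    exact sup_le (fun b hb => mem_centralizer_singleton_iff.2 (hB b hb))
      (zpowers_le.2 (mem_centralizer_singleton_iff.2 ha))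
  exact fun c hc => mem_centralizer_singleton_iff.1 (hle hc)

variable [Finite G] {p k : ℕ} [hp : Fact p.Prime]

/-- Hyperplanes of an elementary group of order `p ^ k`. -/
theorem hyper_sup {A B : Subgroup G} (hk : 1 ≤ k) (hA : IsElementaryAbelian p A) (hAc : Nat.card A = p ^ k)
    (hBA : B ≤ A) (hBc : Nat.card B = p ^ (k - 1)) {a : G} (ha : a ∈ A) (haB : a ∉ B) :
    B ⊔ zpowers a = A := by
  refine Subgroup.eq_of_le_of_card_ge (sup_le hBA (zpowers_le.2 ha)) (le_of_eq ?_)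
  rw [card_sup_zpowers hp.out (fun b hb => PGroup.elemAb_comm hA (hBA hb) ha) (hA.2 a ha) haB, hBc, hAc,
    ← pow_succ, Nat.sub_add_cancel hk]

theorem hyper_inf {A B B' : Subgroup G} (hk : 2 ≤ k) (hA : IsElementaryAbelian p A) (hAc : Nat.card A = p ^ k)
    (hBA : B ≤ A) (hBc : Nat.card B = p ^ (k - 1)) (hBA' : B' ≤ A) (hBc' : Nat.card B' = p ^ (k - 1))
    (hne : B ≠ B') : Nat.card ↥(B ⊓ B') = p ^ (k - 2) := by
  have hi : B.relIndex A = p := by
    have h := relIndex_mul_relIndex ⊥ B A bot_le hBA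
    rw [relIndex_bot_left, relIndex_bot_left, hBc, hAc] at h
    refine Nat.eq_of_mul_eq_mul_left (pow_pos hp.out.pos (k - 1)) (h.trans ?_)
    rw [← pow_succ, Nat.sub_add_cancel (by omega)]
  have hle : B.relIndex B' ≤ p :=
    hi ▸ relIndex_le_of_le_right hBA' (by rw [hi]; exact hp.out.ne_zero)
  have hd : B.relIndex B' ∣ p ^ (k - 1) := hBc' ▸ relIndex_dvd_card B B'
  obtain ⟨j, -, hj⟩ := (Nat.dvd_prime_pow hp.out).1 hd
  have hj1 : j = 1 := by
    rcases j with _ | _ | j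
    · refine absurd ?_ hne
      exact (Subgroup.eq_of_le_of_card_ge (relIndex_eq_one.1 (by simpa using hj)) (by rw [hBc, hBc'])).symm
    · rfl
    · exfalso
      rw [hj] at hle
      have h2 : p ^ 2 ≤ p ^ (j + 1 + 1) := Nat.pow_le_pow_right hp.out.pos (by omega)
      have h3 := hp.out.two_le
      nlinarith
  have h := relIndex_mul_relIndex ⊥ (B ⊓ B') B' bot_le inf_le_right
  rw [relIndex_bot_left, relIndex_bot_left, inf_relIndex_right, hj, hj1, hBc', pow_one] at h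
  refine Nat.eq_of_mul_eq_mul_right hp.out.pos (h.trans ?_)
  rw [← pow_succ]
  congr 1
  omega

theorem hyper_sq_notMem {A B : Subgroup G} (hp2 : p ≠ 2) (hA : IsElementaryAbelian p A) {a : G} (ha : a ∈ A)
    (haB : a ∉ B) : a * a ∉ B := fun h => haB (by
  obtain ⟨r, hr⟩ := hp.out.odd_of_ne_two hp2
  have h1 : (a * a) ^ (r + 1) = a := by
    rw [← pow_two, ← pow_mul, show 2 * (r + 1) = p + 1 by omega, pow_succ, hA.2 a ha, one_mul]
  exact h1 ▸ pow_mem h _)

/-- An element of odd prime order that squares into the centralizer of `x` centralizes `x`. -/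
theorem commute_of_sq_commute (hp2 : p ≠ 2) {a x : G} (ha : a ^ p = 1) (h : Commute (a * a) x) : Commute a x := by
  obtain ⟨r, hr⟩ := hp.out.odd_of_ne_two hp2
  have h1 : (a * a) ^ (r + 1) = a := by
    rw [← pow_two, ← pow_mul, show 2 * (r + 1) = p + 1 by omega, pow_succ, ha, one_mul]
  exact h1 ▸ h.pow_left _

/-- Some element of `D` centralizes `B` but not all of `A`. -/
def Member (A D B : Subgroup G) : Prop :=
  ∃ d ∈ D, (∀ b ∈ B, b * d = d * b) ∧ ¬ ∀ a ∈ A, a * d = d * a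

/-- What the critical subgroup of `O₂(C(z))` provides. -/
structure World (p k : ℕ) (A : Subgroup G) (z : G) (D : Subgroup G) : Prop where
  two : IsPGroup 2 D
  z_mem : z ∈ D
  z_comm : ∀ d ∈ D, d * z = z * d
  conj : ∀ g, g * z = z * g → ∀ d ∈ D, g * d * g⁻¹ ∈ D
  faithful : ∀ a ∈ A, (∀ d ∈ D, a * d = d * a) → a = 1
  pair : ∀ B ≤ A, Nat.card B = p ^ (k - 1) → Member A D B → ∀ a ∈ A, a ∉ B →
    ∃ s ∈ D, (∀ b ∈ B, b * s = s * b) ∧ s * s = z ∧
      s * (a * s * a⁻¹) = z * ((a * s * a⁻¹) * s) ∧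
      ∀ B' ≤ A, Nat.card B' = p ^ (k - 1) → B' ≠ B → ∀ y ∈ D, (∀ b ∈ B', b * y = y * b) →
        s * y = y * s ∧ (a * s * a⁻¹) * y = y * (a * s * a⁻¹)

theorem elemAb_two_zpowers {z : G} (hz : orderOf z = 2) : IsElementaryAbelian 2 (zpowers z) :=
  PGroup.elemAb_zpowers (hz ▸ pow_orderOf_eq_one z)

/-- No commuting pair `x, x^a` of involutions fixed by a hyperplane, apart from the trivial ones. -/
theorem not_two_conj (hS : Setup p k G) {A B : Subgroup G} {z : G} (hA : IsElementaryAbelian p A)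
    (hzo : orderOf z = 2) (hzA : ∀ a ∈ A, a * z = z * a) (hBA : B ≤ A) (hBc : Nat.card B = p ^ (k - 1))
    {x a : G} (ha : a ∈ A) (hx : x * x = 1) (hxz : x * z = z * x) (hxB : ∀ b ∈ B, b * x = x * b)
    (hne : a * x * a⁻¹ ≠ x) : ¬ Commute x (a * x * a⁻¹) := by
  intro hc
  set x' := a * x * a⁻¹ with hx'
  have hzz : z * z = 1 := by rw [← pow_two, ← hzo, pow_orderOf_eq_one]
  have hxne : x ≠ 1 := fun h => hne (by rw [hx', h]; group)
  have hxz' : x' * z = z * x' := ((show Commute a z from hzA a ha).mul_left hxz).mul_left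
    (show Commute a z from hzA a ha).inv_left
  have hx2 : x' * x' = 1 := by
    rw [hx', show a * x * a⁻¹ * (a * x * a⁻¹) = a * (x * x) * a⁻¹ by group, hx]; group
  have hxnz : x ∉ zpowers z := fun h => by
    obtain ⟨i, rfl⟩ := mem_zpowers_iff.1 h
    exact hne (by rw [hx', ((show Commute a z from hzA a ha).zpow_right i).eq, mul_inv_cancel_right])
  have hcz : ∀ w ∈ zpowers z, w * x = x * w := fun w hw => by
    obtain ⟨i, rfl⟩ := mem_zpowers_iff.1 hw
    exact ((show Commute x z from hxz).zpow_right i).symm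
  set E₁ := zpowers z ⊔ zpowers x with hE₁
  have hE₁ab : IsElementaryAbelian 2 E₁ :=
    elemAb_sup_zpowers (elemAb_two_zpowers hzo) hcz (by rw [pow_two, hx])
  have hE₁c : Nat.card E₁ = 2 ^ 2 := by
    rw [hE₁, card_sup_zpowers Nat.prime_two hcz (by rw [pow_two, hx]) hxnz, Nat.card_zpowers, hzo]
    norm_num
  have hgen : ∀ w ∈ E₁, ∀ y : G, Commute z y → Commute x y → Commute w y := by
    intro w hw y h1 h2
    have hle : E₁ ≤ centralizer ({y} : Set G) :=
      sup_le (zpowers_le.2 (mem_centralizer_singleton_iff.2 h1)) (zpowers_le.2 (mem_centralizer_singleton_iff.2 h2))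
    exact mem_centralizer_singleton_iff.1 (hle hw)
  have hcx' : ∀ w ∈ E₁, w * x' = x' * w := fun w hw => hgen w hw x' hxz'.symm hc
  have hx'E : x' ∉ E₁ := by
    intro h
    obtain ⟨w, hw, v, hv, he⟩ := mem_sup_comm (fun w hw v hv => by
      obtain ⟨j, rfl⟩ := mem_zpowers_iff.1 hv
      exact (show Commute w x from hcz w hw).zpow_right j) h
    obtain ⟨i, rfl⟩ := mem_zpowers_iff.1 hw
    obtain ⟨j, rfl⟩ := mem_zpowers_iff.1 hv
    have hcomm : Commute a (z ^ i) := (show Commute a z from hzA a ha).zpow_right i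
    have ha2 : a * a * x * (a * a)⁻¹ = x := by
      rcases Int.even_or_odd j with ⟨m, hm⟩ | ⟨m, hm⟩
      · have hxj : x ^ j = 1 := by rw [hm, ← two_mul, zpow_mul, zpow_two, hx, one_zpow]
        rw [hxj, mul_one] at he
        exfalso
        apply hxnz
        have hx3 : x = z ^ i := by
          calc x = a⁻¹ * x' * a := by rw [hx']; group
            _ = a⁻¹ * (a * z ^ i) := by rw [← he, hcomm.eq]; group
            _ = z ^ i := by group
        exact hx3 ▸ zpow_mem (mem_zpowers z) i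
      · have hxj : x ^ j = x := by rw [hm, zpow_add, zpow_mul, zpow_two, hx, one_zpow, one_mul, zpow_one]
        rw [hxj] at he
        calc a * a * x * (a * a)⁻¹ = a * x' * a⁻¹ := by rw [hx']; group
          _ = z ^ i * (a * x * a⁻¹) := by rw [← he]; simp only [← mul_assoc, hcomm.eq]
          _ = z ^ i * (z ^ i * x) := by rw [← hx', ← he]
          _ = _ := by rw [← mul_assoc, ← zpow_add, ← two_mul, zpow_mul, zpow_two, hzz, one_zpow, one_mul]
    refine hne ?_
    have h3 : Commute (a * a) x := mul_inv_eq_iff_eq_mul.1 ha2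
    rw [hx', (commute_of_sq_commute hS.odd (hA.2 a ha) h3).eq, mul_inv_cancel_right]
  set E := E₁ ⊔ zpowers x' with hE
  have hEab : IsElementaryAbelian 2 E := elemAb_sup_zpowers hE₁ab hcx' (by rw [pow_two, hx2])
  have hEc : Nat.card E = 2 ^ (2 + 1) := by
    rw [hE, card_sup_zpowers Nat.prime_two hcx' (by rw [pow_two, hx2]) hx'E, hE₁c]
    norm_num
  have hBE : ∀ b ∈ B, ∀ w ∈ E, b * w = w * b := by
    intro b hb w hw
    have hbx' : Commute b x' := by
      have hba : Commute b a := PGroup.elemAb_comm hA (hBA hb) ha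
      exact (hba.mul_right (hxB b hb)).mul_right hba.inv_right
    have hle : E ≤ centralizer ({b} : Set G) :=
      sup_le (sup_le (zpowers_le.2 (mem_centralizer_singleton_iff.2 (hzA b (hBA hb)).symm))
        (zpowers_le.2 (mem_centralizer_singleton_iff.2 (hxB b hb).symm)))
        (zpowers_le.2 (mem_centralizer_singleton_iff.2 hbx'.symm.eq))
    exact (mem_centralizer_singleton_iff.1 (hle hw)).symm
  have := hS.rank_bound (b := k - 1) (n := 2) (PGroup.elemAb_mono hA hBA) hBc (by have := hS.three; omega) hEab hEc hBE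
  have := hS.three
  omega

theorem exists_world (hS : Setup p k G) {A : Subgroup G} {z : G} (hA : IsElementaryAbelian p A)
    (hAc : Nat.card A = p ^ k) (hzo : orderOf z = 2) (hzA : ∀ a ∈ A, a * z = z * a) :
    ∃ D : Subgroup G, World p k A z D := by
  have hk := hS.three
  have hzz : z * z = 1 := by rw [← pow_two, ← hzo, pow_orderOf_eq_one]
  have hzne : z ≠ 1 := fun h => by rw [h, orderOf_one] at hzo; norm_num at hzo
  have hz2 : IsPGroup 2 (zpowers z) := PGroup.elemAb_isPGroup (elemAb_two_zpowers hzo)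
  set C := centralizer (zpowers z : Set G) with hC
  have hzC : z ∈ C := mem_cent_zpowers.2 rfl
  have hchar : HasCharP 2 ↥C := hS.charTwo hz2 (by simp [zpowers_eq_bot, hzne])
  set Q := coreOf 2 C with hQdef
  have hQp : IsPGroup 2 Q := isPGroup_coreOf 2 C
  have hQz : ∀ q ∈ Q, q * z = z * q := fun q hq => mem_cent_zpowers.1 (coreOf_le 2 C hq)
  have hCn : ∀ g, g * z = z * g → g ∈ normalizer (Q : Set G) := fun g hg =>
    Solvable.mem_normalizer_of_conj_mem fun x hx => conj_mem_coreOf (mem_cent_zpowers.2 hg) hx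
  obtain ⟨D, hDQ, hDn, hsq, hcl, hself, hdet⟩ := exists_critical_two hQp
  have hzQ : z ∈ Q := (le_coreOf (p := 2) (N := zpowers z) (zpowers_le.2 hzC) (fun g hg x hx => by
    rw [show g * x * g⁻¹ = x by rw [← mem_centralizer_iff.1 hg x hx, mul_inv_cancel_right]]
    exact hx) hz2) (mem_zpowers z)
  have hzD : z ∈ D := hself z hzQ fun d hd => hQz d (hDQ hd)
  have hconj : ∀ g, g * z = z * g → ∀ d ∈ D, g * d * g⁻¹ ∈ D := fun g hg d hd => hDn g (hCn g hg) d hd
  have hcA : ∀ a ∈ A, ∀ d ∈ D, a * d * a⁻¹ ∈ D := fun a ha => hconj a (hzA a ha)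
  have hcop : ∀ a ∈ A, (orderOf a).Coprime 2 := fun a ha =>
    Nat.Coprime.coprime_dvd_left (orderOf_dvd_of_pow_eq_one (hA.2 a ha))
      ((Nat.coprime_primes hp.out Nat.prime_two).2 hS.odd)
  have hfaith : ∀ a ∈ A, (∀ d ∈ D, a * d = d * a) → a = 1 := fun a ha hfix => by
    have h := hdet a (hCn a (hzA a ha)) (hcop a ha) hfix
    exact eq_one_of_mem_two hS.odd (PGroup.elemAb_isPGroup hA) hQp ha
      (mem_coreOf_of_commute hchar (mem_cent_zpowers.2 (hzA a ha)) fun q hq => (h q hq).symm)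
  -- the centre of `D` is fixed by `A`
  set W := D ⊓ centralizer (D : Set G) with hWdef
  have hWc : ∀ x ∈ W, ∀ y ∈ W, x * y = y * x := fun x hx y hy => mem_centralizer_iff.1 hy.2 x hx.1
  have hAW : ∀ a ∈ A, ∀ x ∈ W, a * x * a⁻¹ ∈ W := fun a ha x hx => by
    refine ⟨hcA a ha x hx.1, mem_centralizer_iff.2 fun d hd => ?_⟩
    have hd' : a⁻¹ * d * a ∈ D := by
      have := hcA a⁻¹ (inv_mem ha) d hd
      rwa [inv_inv] at this
    have h := mem_centralizer_iff.1 hx.2 _ hd'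
    calc d * (a * x * a⁻¹) = a * ((a⁻¹ * d * a) * x) * a⁻¹ := by group
      _ = _ := by rw [h]; group
  set U := omegaOne 2 W with hUdef
  have hUab : IsElementaryAbelian 2 U := PGroup.elemAb_omegaOne_of_comm hWc
  have hUfix : ∀ x ∈ U, ∀ a ∈ A, a * x = x * a := by
    by_contra hno
    push Not at hno
    obtain ⟨x₀, hx₀, a₀, ha₀, hmv⟩ := hno
    have hX : (Nat.card U).Coprime p := by
      obtain ⟨j, hj⟩ := IsPGroup.iff_card.1 (PGroup.elemAb_isPGroup hUab)
      rw [hj]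
      exact ((Nat.coprime_primes Nat.prime_two hp.out).2 (Ne.symm hS.odd)).pow_left j
    have hAU : A ≤ normalizer (U : Set G) := Solvable.le_normalizer_of_conj_mem fun a ha x hx => by
      obtain ⟨h1, h2⟩ := (PGroup.mem_omegaOne_iff_of_comm hWc).1 hx
      exact PGroup.mem_omegaOne (hAW a ha x h1) (by rw [conj_pow, h2]; group)
    obtain ⟨B, hBA, hBc, x, hx, hxB, hxR⟩ := exists_hyperplane_moved (n := k - 1) hA
      (by rw [hAc, Nat.sub_add_cancel (by omega)]) hX hAU (U ⊓ centralizer (A : Set G))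
      (fun y hy hc => ⟨hy, mem_centralizer_iff.2 hc⟩)
      (fun hle => hmv (mem_centralizer_iff.1 (hle hx₀).2 a₀ ha₀))
    obtain ⟨a, ha, hax⟩ : ∃ a ∈ A, a * x ≠ x * a := by
      by_contra hcon
      push Not at hcon
      exact hxR ⟨hx, mem_centralizer_iff.2 hcon⟩
    have hxW := PGroup.omegaOne_le 2 W hx
    exact not_two_conj hS hA hzo hzA hBA hBc ha (by rw [← pow_two]; exact hUab.2 x hx)
      (hQz x (hDQ hxW.1)) hxB (fun h => hax (mul_inv_eq_iff_eq_mul.1 h)) (hWc x hxW _ (hAW a ha x hxW))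
  have hWfix : ∀ x ∈ W, ∀ a ∈ A, a * x = x * a := by
    intro x hx
    suffices ∀ j, ∀ y ∈ W, y ^ 2 ^ j = 1 → ∀ a ∈ A, a * y = y * a by
      obtain ⟨j, hj⟩ := hQp ⟨x, hDQ hx.1⟩
      exact this j x hx (congrArg Subtype.val hj)
    intro j
    induction j with
    | zero =>
      intro y _ hy a _
      rw [pow_zero, pow_one] at hy
      simp [hy]
    | succ j ih =>
      intro y hy hyj a ha
      have h2 : a * y ^ 2 = y ^ 2 * a := ih _ (pow_mem hy 2) (by rw [← pow_mul, ← pow_succ', hyj]) a ha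
      set c := y⁻¹ * (a * y * a⁻¹) with hc
      have hcW : c ∈ W := mul_mem (inv_mem hy) (hAW a ha y hy)
      have hcU : c ∈ U := PGroup.mem_omegaOne hcW (by
        rw [hc, Commute.mul_pow (hWc _ (inv_mem hy) _ (hAW a ha y hy)), conj_pow, h2, mul_inv_cancel_right,
          inv_pow, inv_mul_cancel])
      have hac : Commute a c := hUfix c hcU a ha
      have hpw : ∀ n : ℕ, a ^ n * y * (a ^ n)⁻¹ = y * c ^ n := by
        intro n
        induction n with
        | zero => simp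
        | succ n ihn =>
          calc a ^ (n + 1) * y * (a ^ (n + 1))⁻¹ = a * (a ^ n * y * (a ^ n)⁻¹) * a⁻¹ := by
                rw [pow_succ']; group
            _ = (a * y * a⁻¹) * (a * c ^ n * a⁻¹) := by rw [ihn]; group
            _ = y * c * c ^ n := by rw [(hac.pow_right n).eq, mul_inv_cancel_right, hc]; group
            _ = y * c ^ (n + 1) := by rw [pow_succ', mul_assoc]
      have hcp : c ^ p = 1 := by
        have := hpw p
        rw [hA.2 a ha] at this
        simpa using this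
      have hc1 : c = 1 := eq_one_of_coprime_pows ((Nat.coprime_primes Nat.prime_two hp.out).2 (Ne.symm hS.odd))
        (hUab.2 c hcU) hcp
      exact mul_inv_eq_iff_eq_mul.1 (inv_mul_eq_one.1 (hc ▸ hc1)).symm
  have huniq : ∀ t : G, t * t = 1 → t * z = z * t → (∀ a ∈ A, a * t = t * a) → t = 1 ∨ t = z := by
    intro t ht htz htA
    by_contra hno
    push Not at hno
    have htn : t ∉ zpowers z := fun h => by
      obtain ⟨i, rfl⟩ := mem_zpowers_iff.1 h
      rcases Int.even_or_odd i with ⟨m, hm⟩ | ⟨m, hm⟩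
      · exact hno.1 (by rw [hm, ← two_mul, zpow_mul, zpow_two, hzz, one_zpow])
      · exact hno.2 (by rw [hm, zpow_add, zpow_mul, zpow_two, hzz, one_zpow, one_mul, zpow_one])
    have hcz : ∀ w ∈ zpowers z, w * t = t * w := fun w hw => by
      obtain ⟨i, rfl⟩ := mem_zpowers_iff.1 hw
      exact ((show Commute t z from htz).zpow_right i).symm
    have h4 : Nat.card ↥(zpowers z ⊔ zpowers t) = 2 ^ (1 + 1) := by
      rw [card_sup_zpowers Nat.prime_two hcz (by rw [pow_two, ht]) htn, Nat.card_zpowers, hzo]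
      norm_num
    have := hS.rank_bound (b := k) (n := 1) hA hAc (by omega)
      (elemAb_sup_zpowers (elemAb_two_zpowers hzo) hcz (by rw [pow_two, ht])) h4 fun a ha w hw => by
        have hle : zpowers z ⊔ zpowers t ≤ centralizer ({a} : Set G) :=
          sup_le (zpowers_le.2 (mem_centralizer_singleton_iff.2 (hzA a ha).symm))
            (zpowers_le.2 (mem_centralizer_singleton_iff.2 (htA a ha).symm))
        exact (mem_centralizer_singleton_iff.1 (hle hw)).symm
    omega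
  -- commutators and squares
  have hsqW : ∀ x ∈ D, x ^ 2 ∈ W := fun x hx =>
    ⟨pow_mem hx 2, mem_centralizer_iff.2 fun c hc => (hsq x hx c hc).symm⟩
  have hcmW : ∀ x ∈ D, ∀ y ∈ D, ⁅x, y⁆ ∈ W := fun x hx y hy =>
    ⟨D.mul_mem (D.mul_mem (D.mul_mem hx hy) (D.inv_mem hx)) (D.inv_mem hy),
      mem_centralizer_iff.2 fun c hc => (hcl x hx y hy c hc).symm⟩
  have hmulL : ∀ x ∈ D, ∀ y ∈ D, ∀ w ∈ D, ⁅x * y, w⁆ = ⁅x, w⁆ * ⁅y, w⁆ := by
    intro x hx y hy w hw
    calc ⁅x * y, w⁆ = x * ⁅y, w⁆ * x⁻¹ * ⁅x, w⁆ := by simp only [commutatorElement_def]; group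
      _ = ⁅y, w⁆ * ⁅x, w⁆ := by rw [← hcl y hy w hw x hx, mul_inv_cancel_right]
      _ = _ := hcl y hy w hw _ (hcmW x hx w hw).1
  have hcomm2 : ∀ x ∈ D, ∀ y ∈ D, ⁅x, y⁆ = 1 ∨ ⁅x, y⁆ = z := by
    intro x hx y hy
    refine huniq _ ?_ ?_ (hWfix _ (hcmW x hx y hy))
    · rw [← hmulL x hx x hx y hy, ← pow_two, commutatorElement_eq_one_iff_mul_comm]
      exact hsq x hx y hy
    · exact hQz _ (hDQ (hcmW x hx y hy).1)
  have hinvL : ∀ x ∈ D, ∀ y ∈ D, ⁅x⁻¹, y⁆ = ⁅x, y⁆ := by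
    intro x hx y hy
    have h := hmulL x⁻¹ (inv_mem hx) x hx y hy
    rw [inv_mul_cancel, commutatorElement_one_left] at h
    rw [eq_inv_of_mul_eq_one_left h.symm]
    rcases hcomm2 x hx y hy with e | e <;> rw [e]
    · simp
    · exact inv_eq_of_mul_eq_one_right hzz
  have hswap : ∀ x ∈ D, ∀ y ∈ D, ⁅y, x⁆ = ⁅x, y⁆ := fun x hx y hy => by
    rw [← commutatorElement_inv]
    rcases hcomm2 x hx y hy with e | e <;> rw [e]
    · simp
    · exact inv_eq_of_mul_eq_one_right hzz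
  have hmulR : ∀ x ∈ D, ∀ y ∈ D, ∀ w ∈ D, ⁅w, x * y⁆ = ⁅w, x⁆ * ⁅w, y⁆ := fun x hx y hy w hw => by
    rw [hswap _ (mul_mem hx hy) w hw, hmulL x hx y hy w hw, ← hswap x hx w hw, ← hswap y hy w hw]
  have hinvR : ∀ x ∈ D, ∀ y ∈ D, ⁅y, x⁻¹⁆ = ⁅y, x⁆ := fun x hx y hy => by
    rw [hswap _ (inv_mem hx) y hy, hinvL x hx y hy, ← hswap x hx y hy]
  -- the square of `d⁻¹ d^a`
  have hdel : ∀ d ∈ D, ∀ a ∈ A, (d⁻¹ * (a * d * a⁻¹)) * (d⁻¹ * (a * d * a⁻¹)) = ⁅d, a * d * a⁻¹⁆ := by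
    intro d hd a ha
    have h2 : (a * d * a⁻¹) * (a * d * a⁻¹) = d * d := by
      rw [show (a * d * a⁻¹) * (a * d * a⁻¹) = a * d ^ 2 * a⁻¹ by rw [pow_two]; group,
        hWfix _ (hsqW d hd) a ha, mul_inv_cancel_right, pow_two]
    have hcc := hcl d hd _ (hcA a ha d hd)
    generalize a * d * a⁻¹ = d' at h2 hcc ⊢
    have h3 : Commute (⁅d, d'⁆) (d⁻¹ * d⁻¹) := hcc _ (mul_mem (inv_mem hd) (inv_mem hd))
    calc (d⁻¹ * d') * (d⁻¹ * d') = d⁻¹ * d⁻¹ * ⁅d, d'⁆ * (d' * d') := by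
          simp only [commutatorElement_def]; group
      _ = ⁅d, d'⁆ := by rw [h2, ← h3.eq]; group
  have hDfix : ∀ B ≤ A, Nat.card B = p ^ (k - 1) → ∀ x : G, (∀ b ∈ B, b * x = x * b) → ∀ a ∈ A, a ∉ B →
      (¬ ∀ c ∈ A, c * x = x * c) → a * x * a⁻¹ ≠ x := fun B hBA hBc x hxB a ha haB hmv h =>
    hmv (commute_sup (hyper_sup (by omega) hA hAc hBA hBc ha haB) hxB (mul_inv_eq_iff_eq_mul.1 h))
  have hconjB : ∀ B ≤ A, ∀ x : G, (∀ b ∈ B, b * x = x * b) → ∀ a ∈ A, ∀ b ∈ B,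
      b * (a * x * a⁻¹) = a * x * a⁻¹ * b := fun B hBA x hxB a ha b hb => by
    have h1 : Commute b a := PGroup.elemAb_comm hA (hBA hb) ha
    exact (h1.mul_right (hxB b hb)).mul_right h1.inv_right
  refine ⟨D, hQp.to_le hDQ, hzD, fun d hd => hQz d (hDQ hd), hconj, hfaith, ?_⟩
  intro B hBA hBc hmem a ha haB
  obtain ⟨x, hxD, hxB, hxmv, hx2, hnc⟩ : ∃ x ∈ D, (∀ b ∈ B, b * x = x * b) ∧ (¬ ∀ c ∈ A, c * x = x * c) ∧
      (x * x = 1 ∨ x * x = z) ∧ ∀ c ∈ A, c ∉ B → ⁅x, c * x * c⁻¹⁆ = z := by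
    by_cases hinv : ∃ x ∈ D, (∀ b ∈ B, b * x = x * b) ∧ (¬ ∀ c ∈ A, c * x = x * c) ∧ x * x = 1
    · obtain ⟨x, hxD, hxB, hxmv, hx1⟩ := hinv
      refine ⟨x, hxD, hxB, hxmv, Or.inl hx1, fun c hc hcB => (hcomm2 x hxD _ (hcA c hc x hxD)).resolve_left ?_⟩
      rw [commutatorElement_eq_one_iff_mul_comm]
      exact not_two_conj hS hA hzo hzA hBA hBc hc hx1 (hQz x (hDQ hxD)) hxB (hDfix B hBA hBc x hxB c hc hcB hxmv)
    push Not at hinv
    obtain ⟨d, hd, hdB, hdmv⟩ := hmem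
    have hmove : ∀ d ∈ D, (∀ b ∈ B, b * d = d * b) → (¬ ∀ c ∈ A, c * d = d * c) → ∀ c ∈ A, c ∉ B →
        ¬ ∀ c' ∈ A, c' * (d⁻¹ * (c * d * c⁻¹)) = d⁻¹ * (c * d * c⁻¹) * c' := by
      intro d hd hdB hdmv c hc hcB hfix
      set δ := d⁻¹ * (c * d * c⁻¹) with hδ
      have hcδ : Commute c δ := hfix c hc
      have hpw : ∀ n : ℕ, c ^ n * d * (c ^ n)⁻¹ = d * δ ^ n := by
        intro n
        induction n with
        | zero => simp
        | succ n ihn =>
          calc c ^ (n + 1) * d * (c ^ (n + 1))⁻¹ = c * (c ^ n * d * (c ^ n)⁻¹) * c⁻¹ := by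
                rw [pow_succ']; group
            _ = (c * d * c⁻¹) * (c * δ ^ n * c⁻¹) := by rw [ihn]; group
            _ = d * δ * δ ^ n := by rw [(hcδ.pow_right n).eq, mul_inv_cancel_right, hδ]; group
            _ = d * δ ^ (n + 1) := by rw [pow_succ', mul_assoc]
      have hδp : δ ^ p = 1 := by
        have := hpw p
        rw [hA.2 c hc] at this
        simpa using this
      obtain ⟨j, hj⟩ := hQp ⟨δ, hDQ (mul_mem (inv_mem hd) (hcA c hc d hd))⟩
      have hδ1 : δ = 1 := eq_one_of_coprime_pows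
        (((Nat.coprime_primes hp.out Nat.prime_two).2 hS.odd).pow_right j) hδp (congrArg Subtype.val hj)
      exact hDfix B hBA hBc d hdB c hc hcB hdmv (inv_mul_eq_one.1 (hδ ▸ hδ1)).symm
    have hδB : ∀ d : G, (∀ b ∈ B, b * d = d * b) → ∀ c ∈ A, ∀ b ∈ B,
        b * (d⁻¹ * (c * d * c⁻¹)) = d⁻¹ * (c * d * c⁻¹) * b := fun d hdB c hc b hb =>
      (show Commute b d from hdB b hb).inv_right.mul_right (hconjB B hBA d hdB c hc b hb)
    refine ⟨d⁻¹ * (a * d * a⁻¹), mul_mem (inv_mem hd) (hcA a ha d hd), hδB d hdB a ha,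
      hmove d hd hdB hdmv a ha haB, ?_, ?_⟩
    · rw [hdel d hd a ha]
      exact hcomm2 d hd _ (hcA a ha d hd)
    · intro c hc hcB
      set x := d⁻¹ * (a * d * a⁻¹) with hx
      have hxD : x ∈ D := mul_mem (inv_mem hd) (hcA a ha d hd)
      have hxmv := hmove d hd hdB hdmv a ha haB
      refine (hcomm2 x hxD _ (hcA c hc x hxD)).resolve_left fun h1 => ?_
      refine hmove x hxD (hδB d hdB a ha) hxmv c hc hcB ?_
      intro c' hc'
      by_contra hne
      have hy2 : (x⁻¹ * (c * x * c⁻¹)) * (x⁻¹ * (c * x * c⁻¹)) = 1 := by rw [hdel x hxD c hc, h1]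
      exact hinv _ (mul_mem (inv_mem hxD) (hcA c hc x hxD)) (hδB x (hδB d hdB a ha) c hc) ⟨c', hc', hne⟩
        hy2
  have ha2 : a * a ∈ A := mul_mem ha ha
  set x' := a * x * a⁻¹ with hx'
  set x'' := a * x' * a⁻¹ with hx''
  have hx'D : x' ∈ D := hcA a ha x hxD
  have hx''D : x'' ∈ D := hcA a ha x' hx'D
  have h01 : ⁅x, x'⁆ = z := hnc a ha haB
  have h02 : ⁅x, x''⁆ = z := by
    rw [show x'' = a * a * x * (a * a)⁻¹ by rw [hx'', hx']; group]
    exact hnc _ ha2 (hyper_sq_notMem hS.odd hA ha haB)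
  have h12 : ⁅x', x''⁆ = z := by
    rw [hx'', hx', show ⁅a * x * a⁻¹, a * (a * x * a⁻¹) * a⁻¹⁆ = a * ⁅x, a * x * a⁻¹⁆ * a⁻¹ by
      simp only [commutatorElement_def]; group, ← hx', h01, hzA a ha, mul_inv_cancel_right]
  have hs' : a * (x⁻¹ * x') * a⁻¹ = x'⁻¹ * x'' := by rw [hx'', hx']; group
  refine ⟨x⁻¹ * x', mul_mem (inv_mem hxD) hx'D,
    fun b hb => (show Commute b x from hxB b hb).inv_right.mul_right (hconjB B hBA x hxB a ha b hb), ?_, ?_, ?_⟩
  · rw [hx', hdel x hxD a ha]; exact h01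
  · rw [hs']
    have h : ⁅x⁻¹ * x', x'⁻¹ * x''⁆ = z := by
      rw [hmulL _ (inv_mem hxD) _ hx'D _ (mul_mem (inv_mem hx'D) hx''D),
        hmulR _ (inv_mem hx'D) _ hx''D _ (inv_mem hxD), hmulR _ (inv_mem hx'D) _ hx''D _ hx'D,
        hinvR _ hx'D _ (inv_mem hxD), hinvL _ hxD _ hx'D, hinvL _ hxD _ hx''D, hinvR _ hx'D _ hx'D,
        commutatorElement_self, one_mul, h01, h02, h12, hzz, one_mul]
    calc x⁻¹ * x' * (x'⁻¹ * x'') = ⁅x⁻¹ * x', x'⁻¹ * x''⁆ * (x'⁻¹ * x'' * (x⁻¹ * x')) := by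
          simp only [commutatorElement_def]; group
      _ = _ := by rw [h]
  · intro B' hB'A hB'c hne y hy hyB'
    obtain ⟨b', hb', hb'B⟩ : ∃ b' ∈ B', b' ∉ B := by
      by_contra hcon
      push Not at hcon
      exact hne (Subgroup.eq_of_le_of_card_ge hcon (by rw [hBc, hB'c]))
    have hinv' : ∀ c ∈ A, ⁅c * x * c⁻¹, y⁆ = ⁅x, y⁆ := by
      intro c hc
      obtain ⟨b, hb, w, hw, rfl⟩ := mem_sup_comm (fun b hb w hw =>
        PGroup.elemAb_comm hA (hBA hb) (zpowers_le.2 (hB'A hb') hw))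
        ((hyper_sup (by omega) hA hAc hBA hBc (hB'A hb') hb'B).symm ▸ hc)
      have hwA : w ∈ A := zpowers_le.2 (hB'A hb') hw
      have hwy : Commute w y := hyB' w (zpowers_le.2 hb' hw)
      have hbw : Commute b w := PGroup.elemAb_comm hA (hBA hb) hwA
      have hbx : Commute b x := hxB b hb
      have e1 : b * w * x * (b * w)⁻¹ = w * x * w⁻¹ := by
        rw [hbw.eq, show w * b * x * (w * b)⁻¹ = w * (b * x * b⁻¹) * w⁻¹ by group, hbx.eq, mul_inv_cancel_right]
      have e2 : ⁅w * x * w⁻¹, y⁆ = w * ⁅x, w⁻¹ * y * w⁆ * w⁻¹ := by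
        simp only [commutatorElement_def]; group
      rw [e1, e2, show w⁻¹ * y * w = y by rw [mul_assoc, ← hwy.eq, inv_mul_cancel_left],
        hWfix _ (hcmW x hxD y hy) w hwA, mul_inv_cancel_right]
    have key : ∀ c ∈ A, ∀ c' ∈ A,
        Commute ((c * x * c⁻¹)⁻¹ * (c' * x * c'⁻¹)) y := fun c hc c' hc' => by
      rw [← commutatorElement_eq_one_iff_commute, hmulL _ (inv_mem (hcA c hc x hxD)) _ (hcA c' hc' x hxD) _ hy,
        hinvL _ (hcA c hc x hxD) _ hy, hinv' c hc, hinv' c' hc']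
      rcases hcomm2 x hxD y hy with e | e <;> rw [e]
      · rw [one_mul]
      · exact hzz
    refine ⟨?_, ?_⟩
    · have := key 1 (one_mem A) a ha
      rw [show (1 : G) * x * 1⁻¹ = x by group, ← hx'] at this
      exact this.eq
    · have := key a ha (a * a) ha2
      rw [hs', show x'' = a * a * x * (a * a)⁻¹ by rw [hx'', hx']; group, hx']
      exact this.eq

end CfsgLib.KlingerMason
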